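import Mathlib
import Cfsg.Agent.Lib.FischerType.Orbits

/-!
The space of twelve bits: vectors as natural numbers, linear maps as lists of images of unit vectors, and the
subgroup of permutations preserving addition and the four classes of vectors.
-/

set_option autoImplicit false

namespace Cfsg.Agent.Lib.Fi24Type47

open Cfsg.Agent.Lib.FischerType (K4 W6 wt blk Sing)

/-- A bit as an element of `ZMod 2`. -/
def bitZ (b : Bool) : ZMod 2 := cond b 1 0

/-- The vector with a given code. -/
def dec (n : ℕ) : W6 := fun i => (bitZ (n.testBit (2 * i.val)), bitZ (n.testBit (2 * i.val + 1)))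

/-- The code of a coordinate. -/
def k4c (p : K4) : ℕ := p.1.val + 2 * p.2.val

/-- The code of a vector. -/
def enc (w : W6) : ℕ :=
  k4c (w 0) + 4 * k4c (w 1) + 16 * k4c (w 2) + 64 * k4c (w 3) + 256 * k4c (w 4) + 1024 * k4c (w 5)

theorem enc_dec_all : ((List.range 64).all fun a => (List.range 64).all fun b =>
    enc (dec (64 * a + b)) == 64 * a + b) = true := by decide +kernel

theorem enc_dec {n : ℕ} (h : n < 4096) : enc (dec n) = n := by
  have h1 := List.all_eq_true.1 (List.all_eq_true.1 enc_dec_all (n / 64) (List.mem_range.2 (by omega)))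
    (n % 64) (List.mem_range.2 (by omega))
  rw [Nat.div_add_mod] at h1
  exact eq_of_beq h1

theorem dec_enc (w : W6) : dec (enc w) = w := by
  have hbij : Function.Bijective fun n : Fin 4096 => dec n := by
    rw [Fintype.bijective_iff_injective_and_card]
    refine ⟨fun a b h => Fin.ext ?_, by simp⟩
    rw [← enc_dec a.2, ← enc_dec b.2]
    exact congrArg enc h
  obtain ⟨n, rfl⟩ := hbij.2 w
  exact congrArg dec (enc_dec n.2)

theorem enc_lt (w : W6) : enc w < 4096 := by
  have h : ∀ p : K4, k4c p < 4 := by decide
  have := h (w 0); have := h (w 1); have := h (w 2); have := h (w 3); have := h (w 4); have := h (w 5)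
  unfold enc; omega

theorem dec_xor (a b : ℕ) : dec (a ^^^ b) = dec a + dec b := by
  have h : ∀ x y : Bool, bitZ (xor x y) = bitZ x + bitZ y := by decide
  funext i
  simp only [dec, Pi.add_apply, Prod.mk_add_mk, Nat.testBit_xor, h]

theorem dec_zero : dec 0 = 0 := by decide +kernel

theorem enc_add (u v : W6) : enc (u + v) = enc u ^^^ enc v := by
  conv_lhs => rw [← dec_enc u, ← dec_enc v, ← dec_xor]
  exact enc_dec (Nat.xor_lt_two_pow (n := 12) (enc_lt u) (enc_lt v))

theorem enc_inj {u v : W6} (h : enc u = enc v) : u = v := by rw [← dec_enc u, h, dec_enc]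

/-- The class of a vector: zero, small, other singular, nonsingular. -/
def clW (w : W6) : ℕ :=
  if w = 0 then 0 else if wt w % 2 = 1 then 3 else if blk w = 0 ∨ blk w = 2 then 1 else 2

/-- Multiplication by `ν` as a permutation. -/
def nuP : Equiv.Perm W6 where
  toFun w := fun i => FischerType.nuK (w i)
  invFun w := fun i => FischerType.nuK (FischerType.nuK (w i))
  left_inv w := by
    have h : ∀ p : K4, FischerType.nuK (FischerType.nuK (FischerType.nuK p)) = p := by decide
    funext i; exact h _
  right_inv w := by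
    have h : ∀ p : K4, FischerType.nuK (FischerType.nuK (FischerType.nuK p)) = p := by decide
    funext i; exact h _

/-- Additive permutations preserving the classes. -/
def Au : Subgroup (Equiv.Perm W6) where
  carrier := {f | (∀ u v, f (u + v) = f u + f v) ∧ ∀ w, clW (f w) = clW w}
  one_mem' := ⟨fun _ _ => rfl, fun _ => rfl⟩
  mul_mem' {f g} hf hg := ⟨fun u v => by simp only [Equiv.Perm.mul_apply, hg.1, hf.1],
    fun w => by rw [Equiv.Perm.mul_apply, hf.2, hg.2]⟩
  inv_mem' {f} hf := ⟨fun u v => f.injective (by rw [hf.1]; simp), fun w => by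
    conv_rhs => rw [← Equiv.apply_symm_apply f w, hf.2]
    rfl⟩

theorem mem_Au {f : Equiv.Perm W6} : f ∈ Au ↔ (∀ u v, f (u + v) = f u + f v) ∧ ∀ w, clW (f w) = clW w := Iff.rfl

theorem apply_zero {f : Equiv.Perm W6} (hf : f ∈ Au) : f 0 = 0 := by
  have h := (mem_Au.1 hf).1 0 0
  rw [add_zero] at h
  exact left_eq_add.1 h

/-- The value of a list of images at a vector. -/
def ap : List ℕ → ℕ → ℕ
  | [], _ => 0
  | a :: t, w => (cond (w % 2 == 1) a 0) ^^^ ap t (w / 2)

/-- The composition. -/
def mulM (a b : List ℕ) : List ℕ := b.map (ap a)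

/-- All values in the order of the codes. -/
def table : List ℕ → List ℕ
  | [] => [0]
  | a :: t => (table t).flatMap fun x => [x, a ^^^ x]

/-- The images of the unit vectors. -/
def colsOf (f : Equiv.Perm W6) : List ℕ := (List.range 12).map fun i => enc (f (dec (2 ^ i)))

theorem ap_colsOf {f : Equiv.Perm W6} (hf : f ∈ Au) : ∀ w < 4096, ap (colsOf f) w = enc (f (dec w)) := by
  have key : ∀ (k s : ℕ), ∀ w < 2 ^ k,
      ap ((List.range' s k).map fun i => enc (f (dec (2 ^ i)))) w = enc (f (dec (2 ^ s * w))) := by
    intro k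
    induction k with
    | zero =>
      intro s w hw
      have : w = 0 := by simpa using hw
      subst this
      rw [mul_zero, dec_zero, apply_zero hf]
      rfl
    | succ k ih =>
      intro s w hw
      rw [List.range'_succ, List.map_cons, ap, ih (s + 1) (w / 2) (by rw [pow_succ] at hw; omega)]
      have hsplit : 2 ^ s * w = (cond (w % 2 == 1) (2 ^ s) 0) ^^^ (2 ^ (s + 1) * (w / 2)) := by
        refine Nat.eq_of_testBit_eq fun j => ?_
        rw [Nat.testBit_xor, Nat.testBit_two_pow_mul, Nat.testBit_two_pow_mul]
        rcases Nat.lt_trichotomy j s with hj | hj | hj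
        · have h0 : (cond (w % 2 == 1) (2 ^ s) 0).testBit j = false := by
            cases (w % 2 == 1)
            · exact Nat.zero_testBit j
            · exact Nat.testBit_two_pow_of_ne (by omega)
          simp [h0, show ¬ (s ≤ j) by omega, show ¬ (s + 1 ≤ j) by omega]
        · subst hj
          rcases Nat.mod_two_eq_zero_or_one w with h | h <;>
            simp [h, Nat.testBit_zero, show ¬ (j + 1 ≤ j) by omega]
        · obtain ⟨i, rfl⟩ : ∃ i, j = s + (i + 1) := ⟨j - s - 1, by omega⟩
          have h0 : (cond (w % 2 == 1) (2 ^ s) 0).testBit (s + (i + 1)) = false := by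
            cases (w % 2 == 1)
            · exact Nat.zero_testBit _
            · exact Nat.testBit_two_pow_of_ne (by omega)
          simp [h0, show s + (i + 1) - (s + 1) = i by omega, Nat.testBit_add_one, show s + 1 ≤ s + (i + 1) by omega]
      rw [hsplit, dec_xor, (mem_Au.1 hf).1, enc_add]
      rcases Nat.mod_two_eq_zero_or_one w with h | h <;>
        simp [h, dec_zero, apply_zero hf, show enc (0 : W6) = 0 from rfl]
  intro w hw
  have h := key 12 0 w hw
  rw [pow_zero, one_mul] at h
  rw [colsOf, List.range_eq_range']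
  exact h

theorem colsOf_mul {f g : Equiv.Perm W6} (hf : f ∈ Au) (_hg : g ∈ Au) :
    colsOf (f * g) = mulM (colsOf f) (colsOf g) := by
  rw [mulM]
  show _ = List.map (ap (colsOf f)) ((List.range 12).map fun i => enc (g (dec (2 ^ i))))
  rw [List.map_map]
  refine List.map_congr_left fun i _ => ?_
  rw [Function.comp_apply, ap_colsOf hf _ (enc_lt _), dec_enc, Equiv.Perm.mul_apply]

theorem colsOf_inj {f g : Equiv.Perm W6} (hf : f ∈ Au) (hg : g ∈ Au) (h : colsOf f = colsOf g) : f = g := by
  refine Equiv.ext fun w => enc_inj ?_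
  rw [← dec_enc w, ← ap_colsOf hf _ (enc_lt w), ← ap_colsOf hg _ (enc_lt w), h]

/-- The unit columns. -/
def idM : List ℕ := (List.range 12).map (2 ^ ·)

theorem colsOf_one : colsOf 1 = idM := by
  refine List.map_congr_left fun i hi => ?_
  rw [Equiv.Perm.one_apply]
  exact enc_dec (Nat.pow_lt_pow_right one_lt_two (List.mem_range.1 hi))

end Cfsg.Agent.Lib.Fi24Type47
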