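import Mathlib

/-!
The small orbit and the nonsingular vectors as bit masks, and a chain of base vectors.
-/

set_option autoImplicit false

namespace Cfsg.Agent.Lib.Fi24Type47

/-- The nonsingular vectors. -/
def oddMask : ℕ := 0x111e111e111eeee1111e111e111eeee1111e111e111eeee1eee1eee1eee1111e111e111e111eeee1111e111e111eeee1111e111e111eeee1eee1eee1eee1111e111e111e111eeee1111e111e111eeee1111e111e111eeee1eee1eee1eee1111eeee1eee1eee1111eeee1eee1eee1111eeee1eee1eee1111e111e111e111eeee1111e111e111eeee1111e111e111eeee1111e111e111eeee1eee1eee1eee1111e111e111e111eeee1111e111e111eeee1111e111e111eeee1eee1eee1eee1111e111e111e111eeee1111e111e111eeee1111e111e111eeee1eee1eee1eee1111eeee1eee1eee1111eeee1eee1eee1111eeee1eee1eee1111e111e111e111eeee1111e111e111eeee1111e111e111eeee1111e111e111eeee1eee1eee1eee1111e111e111e111eeee1111e111e111eeee1111e111e111eeee1eee1eee1eee1111e111e111e111eeee1111e111e111eeee1111e111e111eeee1eee1eee1eee1111eeee1eee1eee1111eeee1eee1eee1111eeee1eee1eee1111e111e111e111eeee1eee1eee1eee1111eeee1eee1eee1111eeee1eee1eee1111e111e111e111eeee1eee1eee1eee1111eeee1eee1eee1111eeee1eee1eee1111e111e111e111eeee1eee1eee1eee1111eeee1eee1eee1111eeee1eee1eee1111e111e111e111eeee1111e111e111eeee1111e111e111eeee1111e111e111eeee1eee1eee1eee1111e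

/-- The small orbit. -/
def smallMask : ℕ := 0x824024804820000024804820824000004820824024800000000000000000000124804820824000004820824024800000824024804820000000000000000000014820824024800000824024804820000024804820824000000000000000000001000000000000000100000000000000010000000000000001000100010001111e248048208240000048208240248000008240248048200000000000000000000148208240248000008240248048200000248048208240000000000000000000018240248048200000248048208240000048208240248000000000000000000001000000000000000100000000000000010000000000000001000100010001111e482082402480000082402480482000002480482082400000000000000000000182402480482000002480482082400000482082402480000000000000000000012480482082400000482082402480000082402480482000000000000000000001000000000000000100000000000000010000000000000001000100010001111e000000000000000100000000000000010000000000000001000100010001111e000000000000000100000000000000010000000000000001000100010001111e000000000000000100000000000000010000000000000001000100010001111e000100010001111e000100010001111e000100010001111e111e111e111eeee0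

/-- The base vectors. -/
def base : List ℕ := [544, 3429, 3513, 44, 1662, 194, 3074, 2559, 5, 131, 3045, 2421]

end Cfsg.Agent.Lib.Fi24Type47
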