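import Mathlib
import Cfsg.Agent.Lib.Fi24Type47.Code
import Cfsg.Agent.Lib.Fi24Type47.Masks

/-!
The permutations preserving addition and the classes number at most 39191040.
-/

set_option autoImplicit false

namespace Cfsg.Agent.Lib.Fi24Type47

open Cfsg.Agent.Lib.FischerType (K4 W6)

/-- The class of a code. -/
def clN (n : ℕ) : ℕ := if n = 0 then 0 else if oddMask.testBit n then 3 else if smallMask.testBit n then 1 else 2

theorem clN_all : ((List.range 64).all fun a => (List.range 64).all fun b =>
    clN (64 * a + b) == clW (dec (64 * a + b))) = true := by decide +kernel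

theorem clN_eq {n : ℕ} (h : n < 4096) : clN n = clW (dec n) := by
  have h1 := List.all_eq_true.1 (List.all_eq_true.1 clN_all (n / 64) (List.mem_range.2 (by omega)))
    (n % 64) (List.mem_range.2 (by omega))
  rw [Nat.div_add_mod] at h1
  exact eq_of_beq h1

theorem clN_enc (w : W6) : clN (enc w) = clW w := by rw [clN_eq (enc_lt w), dec_enc]

/-- The span of a list of codes. -/
def spanL : List ℕ → List ℕ
  | [] => [0]
  | v :: t => let S := spanL t; S ++ S.map (v ^^^ ·)

/-- The small codes. -/
def smallL : List ℕ := (List.range 64).flatMap fun a =>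
  ((List.range 64).map (64 * a + ·)).filter fun n => clN n == 1

/-- The possible images of `v` once the vectors of `pre` are fixed. -/
def cands (pre : List ℕ) (v : ℕ) : List ℕ :=
  let S := spanL pre
  smallL.filter fun w => S.all fun s => clN (w ^^^ s) == clN (v ^^^ s)

/-- The bound along a base. -/
def bound : List ℕ → List ℕ → ℕ
  | _, [] => 1
  | pre, v :: t => (cands pre v).length * bound (v :: pre) t

theorem bound_base : bound [] base = 39191040 := by decide +kernel

theorem base_small : base.all (fun v => clN v == 1 && decide (v < 4096)) = true := by decide +kernel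

theorem span_base : (spanL base).foldl (fun m s => m ||| 2 ^ s) 0 = 2 ^ 4096 - 1 := by decide +kernel

theorem mem_smallL {n : ℕ} (hn : n < 4096) (h : clN n = 1) : n ∈ smallL := by
  refine List.mem_flatMap.2 ⟨n / 64, List.mem_range.2 (by omega), List.mem_filter.2 ⟨?_, by simp [h]⟩⟩
  exact List.mem_map.2 ⟨n % 64, List.mem_range.2 (by omega), Nat.div_add_mod n 64⟩

/-- The elements of `Au` fixing the listed vectors. -/
def fixing (pre : List ℕ) : Subgroup Au where
  carrier := {g | ∀ v ∈ pre, (g : Equiv.Perm W6) (dec v) = dec v}
  one_mem' := fun _ _ => rfl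
  mul_mem' {f g} hf hg v hv := by
    show (f : Equiv.Perm W6) ((g : Equiv.Perm W6) (dec v)) = dec v
    rw [hg v hv, hf v hv]
  inv_mem' {f} hf v hv := by
    show (f : Equiv.Perm W6).symm (dec v) = dec v
    rw [Equiv.symm_apply_eq, hf v hv]

theorem fixing_span {pre : List ℕ} {g : Au} (hg : g ∈ fixing pre) :
    ∀ s ∈ spanL pre, (g : Equiv.Perm W6) (dec s) = dec s := by
  induction pre with
  | nil =>
    intro s hs
    rw [spanL, List.mem_singleton] at hs
    rw [hs, dec_zero, apply_zero g.2]
  | cons v t ih =>
    intro s hs
    have ht : g ∈ fixing t := fun u hu => hg u (List.mem_cons_of_mem v hu)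
    simp only [spanL, List.mem_append, List.mem_map] at hs
    rcases hs with hs | ⟨a, ha, rfl⟩
    · exact ih ht s hs
    · rw [dec_xor, (mem_Au.1 g.2).1, ih ht a ha, hg v List.mem_cons_self]

theorem spanL_lt {pre : List ℕ} (hp : ∀ u ∈ pre, u < 4096) : ∀ s ∈ spanL pre, s < 4096 := by
  induction pre with
  | nil => intro s hs; rw [spanL, List.mem_singleton] at hs; omega
  | cons v t ih =>
    intro s hs
    simp only [spanL, List.mem_append, List.mem_map] at hs
    rcases hs with hs | ⟨a, ha, rfl⟩
    · exact ih (fun u hu => hp u (List.mem_cons_of_mem v hu)) s hs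
    · exact Nat.xor_lt_two_pow (n := 12) (hp v List.mem_cons_self)
        (ih (fun u hu => hp u (List.mem_cons_of_mem v hu)) a ha)

theorem fixing_cons (v : ℕ) (pre : List ℕ) (g : Au) :
    g ∈ fixing (v :: pre) ↔ g ∈ fixing pre ∧ (g : Equiv.Perm W6) (dec v) = dec v :=
  ⟨fun h => ⟨fun u hu => h u (List.mem_cons_of_mem v hu), h v List.mem_cons_self⟩, fun h u hu => by
    rcases List.mem_cons.1 hu with rfl | hu
    exacts [h.2, h.1 u hu]⟩

theorem card_fixing (rest : List ℕ) : ∀ pre : List ℕ, (∀ v ∈ rest, clN v = 1 ∧ v < 4096) →
    (∀ u ∈ pre, u < 4096) →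
    fixing (rest.reverse ++ pre) = ⊥ → Nat.card (fixing pre) ≤ bound pre rest := by
  induction rest with
  | nil =>
    intro pre _ _ h
    rw [List.reverse_nil, List.nil_append] at h
    rw [h, Subgroup.card_bot]
    exact le_refl 1
  | cons v t ih =>
    intro pre hv hpre h
    rw [List.reverse_cons, List.append_assoc, List.singleton_append] at h
    have h1 := ih (v :: pre) (fun u hu => hv u (List.mem_cons_of_mem v hu)) (fun u hu => by
      rcases List.mem_cons.1 hu with rfl | hu
      exacts [(hv u List.mem_cons_self).2, hpre u hu]) h
    obtain ⟨hv1, hvlt⟩ := hv v List.mem_cons_self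
    let f : fixing pre → W6 := fun g => ((g : Au) : Equiv.Perm W6) (dec v)
    let K : Subgroup (fixing pre) := (fixing (v :: pre)).subgroupOf (fixing pre)
    have hK : Nat.card K = Nat.card (fixing (v :: pre)) :=
      Nat.card_congr (Subgroup.subgroupOfEquivOfLe (fun g hg => ((fixing_cons v pre g).1 hg).1)).toEquiv
    have hidx : K.index ≤ (cands pre v).length := by
      let emb : fixing pre ⧸ K → {w : W6 // enc w ∈ cands pre v} :=
        Quotient.lift (fun g => ⟨f g, by
          refine List.mem_filter.2 ⟨mem_smallL (enc_lt _) ?_, List.all_eq_true.2 fun s hs => ?_⟩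
          · rw [clN_enc, (mem_Au.1 (g : Au).2).2, ← clN_eq hvlt, hv1]
          · have hs' : s < 4096 := spanL_lt hpre s hs
            have e : enc (f g) ^^^ s = enc (f g + dec s) := by rw [enc_add, enc_dec hs']
            rw [beq_iff_eq, e, clN_enc, ← fixing_span g.2 s hs, ← (mem_Au.1 (g : Au).2).1,
              (mem_Au.1 (g : Au).2).2, ← dec_xor, ← clN_eq (Nat.xor_lt_two_pow (n := 12) hvlt hs')]⟩)
          fun g g' hgg => Subtype.ext (by
            have hm : (g⁻¹ * g') ∈ K := QuotientGroup.leftRel_apply.1 hgg
            have := ((fixing_cons v pre _).1 hm).2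
            show f g = f g'
            calc f g = ((g : Au) : Equiv.Perm W6) ((((g⁻¹ * g' : fixing pre) : Au) : Equiv.Perm W6) (dec v)) :=
                  congrArg _ this.symm
              _ = f g' := by simp [f])
      have hinj : Function.Injective emb := by
        intro a b
        induction a using QuotientGroup.induction_on with
        | _ g =>
          induction b using QuotientGroup.induction_on with
          | _ g' =>
            intro e
            have e' : f g = f g' := congrArg Subtype.val e
            refine QuotientGroup.eq.2 ((fixing_cons v pre _).2 ⟨(g⁻¹ * g').2, ?_⟩)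
            show ((g : Au) : Equiv.Perm W6).symm (f g') = dec v
            rw [Equiv.symm_apply_eq]
            exact e'.symm
      haveI : Finite {w : W6 // enc w ∈ cands pre v} := Subtype.finite
      calc K.index = Nat.card (fixing pre ⧸ K) := rfl
        _ ≤ Nat.card {w : W6 // enc w ∈ cands pre v} := Nat.card_le_card_of_injective emb hinj
        _ ≤ Nat.card {n : ℕ // n ∈ (cands pre v).toFinset} := by
            refine Nat.card_le_card_of_injective (fun w => ⟨enc w.1, List.mem_toFinset.2 w.2⟩) ?_
            exact fun a b e => Subtype.ext (enc_inj (congrArg Subtype.val e))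
        _ ≤ _ := by
            rw [Nat.card_eq_fintype_card, Fintype.card_coe]
            exact List.toFinset_card_le _
    rw [← K.card_mul_index, hK, bound, Nat.mul_comm]
    exact Nat.mul_le_mul hidx h1

theorem card_Au_le : Nat.card Au ≤ 39191040 := by
  have htop : fixing [] = ⊤ := by ext g; simp [fixing]
  have hb := List.all_eq_true.1 base_small
  have h := card_fixing base [] (fun v hv => by
    have := hb v hv
    simpa using this) (by simp) ?_
  · rw [htop, Subgroup.card_top, bound_base] at h
    exact h
  · rw [List.append_nil, eq_bot_iff]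
    intro g hg
    have hg' : g ∈ fixing base := fun u hu => hg u (List.mem_reverse.2 hu)
    have hall : ∀ n < 4096, n ∈ spanL base := by
      have key : ∀ (l : List ℕ) (m n : ℕ), (l.foldl (fun m s => m ||| 2 ^ s) m).testBit n = true →
          m.testBit n = true ∨ n ∈ l := by
        intro l
        induction l with
        | nil => exact fun m n h => Or.inl h
        | cons a t ih =>
          intro m n h
          rcases ih _ n h with h | h
          · rw [Nat.testBit_or, Bool.or_eq_true] at h
            rcases h with h | h
            · exact Or.inl h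
            · rw [Nat.testBit_two_pow, decide_eq_true_eq] at h; exact Or.inr (List.mem_cons.2 (Or.inl h.symm))
          · exact Or.inr (List.mem_cons_of_mem a h)
      intro n hn
      refine (key (spanL base) 0 n ?_).resolve_left (by simp)
      rw [span_base, Nat.testBit_two_pow_sub_one]
      simpa using hn
    refine Subgroup.mem_bot.2 (Subtype.ext (Equiv.ext fun w => ?_))
    rw [← dec_enc w, fixing_span hg' _ (hall _ (enc_lt w))]
    rfl

end Cfsg.Agent.Lib.Fi24Type47
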