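import Mathlib
import Cfsg.Agent.Lib.Fi24Type47.Count
import Cfsg.Agent.Lib.Fi24Type47.Data

/-!
Kernel checks on the tables and the search through the elementary abelian subgroups.
-/

set_option autoImplicit false

namespace Cfsg.Agent.Lib.Fi24Type47

/-- A member of the Sylow list. -/
def getE (k : ℕ) : List ℕ := sylL.getD k []

/-- The matrix of `ν`. -/
def nuM : List ℕ := (List.range 12).map fun i => enc (nuP (dec (2 ^ i)))

/-- A matrix preserves the classes and is given by its values at the unit vectors. -/
def goodM (m : List ℕ) : Bool :=
  m.all (fun a => decide (a < 4096)) && ((List.range 12).map fun i => ap m (2 ^ i)) == m &&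
    (List.range 64).all fun a => (List.range 64).all fun b => clN (ap m (64 * a + b)) == clN (64 * a + b)

theorem good_gens : gens.all goodM = true := by decide +kernel

theorem good_odd : (rootEl :: oddEls).all goodM = true := by decide +kernel

theorem good_nu : goodM nuM = true := by decide +kernel

theorem syl_first : getE 0 = idM ∧ sylL.length = 512 := by decide +kernel

theorem parents_ok : ((List.range 511).all fun k =>
    let p := parents.getD k (0, 0)
    decide (p.1 ≤ k) && decide (p.2 < 5) && getE (k + 1) == mulM (getE p.1) (gens.getD p.2 [])) = true := by
  decide +kernel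

theorem steps_ok : ((List.range 512).all fun k => (List.range 5).all fun j =>
    let r := (steps.getD k []).getD j 512
    decide (r < 512) && mulM (getE k) (gens.getD j []) == getE r) = true := by decide +kernel

/-- No repetition. -/
def distinctL : List (List ℕ) → Bool
  | [] => true
  | a :: t => t.all (fun b => !(a == b)) && distinctL t

theorem syl_distinct : distinctL sylL = true := by decide +kernel

/-- The linear part of order 128. -/
def linL : List (List ℕ) := linIdx.map getE

/-- The special subgroup of order 16. -/
def kL : List (List ℕ) := kIdx.map getE

theorem lin_shape : linIdx.head? = some 0 ∧ linIdx.length = 128 ∧ linL.length = 128 ∧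
    distinctL linL = true ∧ kIdx.head? = some 0 ∧ kL.length = 16 ∧ distinctL kL = true ∧
    linIdx.all (fun k => decide (k < 512)) = true ∧ kIdx.all linIdx.contains = true := by decide +kernel

theorem lin_parents_ok : ((List.range 127).all fun k =>
    let p := linParents.getD k (0, 0)
    decide (p.1 ≤ k) && decide (p.2 < linGens.length) &&
      getE (linIdx.getD (k + 1) 0) == mulM (getE (linIdx.getD p.1 0)) (getE (linGens.getD p.2 0))) = true := by
  decide +kernel

theorem lin_comm : linL.all (fun m => mulM m nuM == mulM nuM m) = true := by decide +kernel

theorem odd_ok : oddEls.all (fun m => mulM m nuM == mulM nuM m) = true ∧ oddEls.length = oddOrd.length ∧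
    ((List.range oddEls.length).all fun j => decide (oddOrd.getD j 0 % 2 = 1) &&
      (Nat.rec idM (fun _ x => mulM x (oddEls.getD j [])) (oddOrd.getD j 0) : List ℕ) == idM) = true := by
  decide +kernel

/-- The product of a word. -/
def wordEl : List ℕ → List ℕ
  | [] => idM
  | j :: t => mulM (oddEls.getD j idM) (wordEl t)

theorem root_ok : mulM rootEl rootEl = getE k1Idx := by decide +kernel

theorem words_ok : words.all (fun p => p.2.all (fun j => decide (j < oddEls.length)) && decide (p.1 < 512) &&
      mulM (getE p.1) (wordEl p.2) == mulM (wordEl p.2) (getE k1Idx)) = true ∧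
    linGens.all (fun i => (words.map Prod.fst).contains i) = true ∧
    (kIdx.tail).all (fun i => (words.map Prod.fst).contains i) = true ∧
    k1Idx ∈ linIdx := by decide +kernel

theorem fixK_ok : kL.all (fun m => fixK.all fun w => ap m w == w) = true ∧ fixK.length = 64 ∧
    fixK.all (fun w => decide (w < 4096) && !(clN w == 3)) = true ∧
    fixK.all (fun v => fixK.all fun w => fixK.contains (v ^^^ w) && fixK.contains (ap nuM w)) = true ∧
    fixK.contains 0 = true := by decide +kernel

/-- Values with arguments. -/
def tabP : List ℕ → List (ℕ × ℕ)
  | [] => [(0, 0)]
  | a :: t => (tabP t).flatMap fun p => [(p.1, 2 * p.2), (a ^^^ p.1, 2 * p.2 + 1)]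

/-- The fixed codes of a matrix. -/
def fixL (m : List ℕ) : List ℕ := ((tabP m).filter fun p => p.1 == p.2).map Prod.snd

/-- The checks at a subgroup with list `S`. -/
def leafOk (S : List (List ℕ)) (fl : List ℕ) (sm : List (List ℕ)) : Bool :=
  decide (S.length ≤ 16) &&
    (decide (S.length < 16) || decide (fl.length ≤ 8) || S.all kL.contains) &&
      (decide (S.length < 8) || sm.all fun o => decide ((fl.filter fun w => ap o w == w).length ≤ 8))

mutual

/-- The search. -/
def go : ℕ → List (List ℕ) → List (List ℕ) → List ℕ → List (List ℕ) → Bool
  | 0, _, _, _, _ => false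
  | n + 1, S, c, fl, sm => leafOk S fl sm && goList n S c fl sm

/-- The children. -/
def goList : ℕ → List (List ℕ) → List (List ℕ) → List ℕ → List (List ℕ) → Bool
  | _, _, [], _, _ => true
  | 0, _, _ :: _, _, _ => false
  | n + 1, S, i :: suf, fl, sm =>
    (let new := S.map (mulM i);
      !(new.all fun x => x == i || suf.contains x) ||
        go n (S ++ new) (suf.filter fun j => !(new.contains j) && mulM i j == mulM j i)
          (fl.filter fun w => ap i w == w) (sm.filter fun o => mulM i o == mulM o i)) &&
      goList n S suf fl sm

end

/-- The involutions of the linear part. -/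
def linInv : List (List ℕ) := linL.filter fun m => !(m == idM) && mulM m m == idM

/-- The involutions outside the linear elements. -/
def semInv : List (List ℕ) := sylL.filter fun m => mulM m m == idM && !(mulM m nuM == mulM nuM m)

/-- The search from the top. -/
def topOk : List (List ℕ) → Bool
  | [] => true
  | i :: suf => go 200 [idM, i] (suf.filter fun j => mulM i j == mulM j i) (fixL i)
      (semInv.filter fun o => mulM i o == mulM o i) && topOk suf

theorem top_ok : topOk linInv = true := by decide +kernel

end Cfsg.Agent.Lib.Fi24Type47
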