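import Mathlib
import Cfsg.Agent.Lib.Fi24Type47.Cert

/-!
The listed Sylow 2-subgroup, its linear part, and the elements of odd order, as permutations.
-/

set_option autoImplicit false

namespace Cfsg.Agent.Lib.Fi24Type47

open Cfsg.Agent.Lib.FischerType (K4 W6)

/-- The matrix of an element. -/
def mat (f : Au) : List ℕ := colsOf (f : Equiv.Perm W6)

theorem mat_mul (f g : Au) : mat (f * g) = mulM (mat f) (mat g) := colsOf_mul f.2 g.2

theorem mat_inj {f g : Au} (h : mat f = mat g) : f = g := Subtype.ext (colsOf_inj f.2 g.2 h)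

theorem mat_one : mat 1 = idM := colsOf_one

theorem ap_mat (f : Au) {w : ℕ} (hw : w < 4096) : ap (mat f) w = enc ((f : Equiv.Perm W6) (dec w)) :=
  ap_colsOf f.2 w hw

theorem ap_xor : ∀ (m : List ℕ) (a b : ℕ), ap m (a ^^^ b) = ap m a ^^^ ap m b := by
  intro m
  induction m with
  | nil => intro a b; simp [ap]
  | cons c t ih =>
    intro a b
    simp only [ap]
    rw [show (a ^^^ b) / 2 = a / 2 ^^^ b / 2 by
      simpa only [Nat.shiftRight_eq_div_pow, pow_one] using (Nat.shiftRight_xor_distrib : (a ^^^ b) >>> 1 = a >>> 1 ^^^ b >>> 1), ih]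
    have hp : ((a ^^^ b) % 2 == 1) = xor (a % 2 == 1) (b % 2 == 1) := by
      have h := Nat.testBit_xor a b 0
      simp only [Nat.testBit_zero] at h
      rcases Nat.mod_two_eq_zero_or_one a with ha | ha <;> rcases Nat.mod_two_eq_zero_or_one b with hb | hb <;>
        rcases Nat.mod_two_eq_zero_or_one (a ^^^ b) with hab | hab <;> simp [ha, hb, hab] at h ⊢
    rw [hp]
    cases (a % 2 == 1) <;> cases (b % 2 == 1) <;>
      simp [Nat.xor_assoc, Nat.xor_left_comm, Nat.xor_comm]

theorem ap_lt {m : List ℕ} (h : ∀ a ∈ m, a < 4096) : ∀ w, ap m w < 4096 := by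
  induction m with
  | nil => intro w; exact (by norm_num : (0 : ℕ) < 4096)
  | cons c t ih =>
    intro w
    refine Nat.xor_lt_two_pow (n := 12) ?_ (ih (fun a ha => h a (List.mem_cons_of_mem c ha)) _)
    cases (w % 2 == 1)
    · exact (by norm_num : (0 : ℕ) < 4096)
    · exact h c List.mem_cons_self

/-- The element with a given good matrix. -/
theorem exists_of_good {m : List ℕ} (h : goodM m = true) : ∃ f : Au, mat f = m := by
  simp only [goodM, Bool.and_eq_true, beq_iff_eq] at h
  obtain ⟨⟨hlt, hcols⟩, hcl⟩ := h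
  have hlt' : ∀ a ∈ m, a < 4096 := fun a ha => by simpa using List.all_eq_true.1 hlt a ha
  have hclass : ∀ w, clW (dec (ap m (enc w))) = clW w := by
    intro w
    have h1 := List.all_eq_true.1 (List.all_eq_true.1 hcl (enc w / 64)
      (List.mem_range.2 (by have := enc_lt w; omega))) (enc w % 64) (List.mem_range.2 (by omega))
    rw [Nat.div_add_mod, beq_iff_eq, clN_eq (ap_lt hlt' _), clN_enc] at h1
    exact h1
  let f : W6 → W6 := fun w => dec (ap m (enc w))
  have hadd : ∀ u v, f (u + v) = f u + f v := fun u v => by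
    show dec (ap m (enc (u + v))) = _
    rw [enc_add, ap_xor, dec_xor]
  have h0 : f 0 = 0 := by
    have h := hadd 0 0
    rw [add_zero] at h
    exact left_eq_add.1 h
  have hinj : Function.Injective f := by
    intro u v e
    have h1 : f (u + v) = 0 := by
      rw [hadd, e]
      funext i
      generalize f v = u
      show u i + u i = 0
      generalize u i = p
      revert p; decide
    have h2 : clW (u + v) = 0 := by
      rw [← hclass]
      show clW (f (u + v)) = 0
      rw [h1]; rfl
    have h3 : u + v = 0 := by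
      by_contra hne
      rw [clW, if_neg hne] at h2
      split_ifs at h2
    funext i
    have := congrFun h3 i
    exact (add_eq_zero_iff_eq_neg.1 this).trans (by
      generalize v i = p; revert p; decide)
  refine ⟨⟨Equiv.ofBijective f (Finite.injective_iff_bijective.1 hinj), hadd, hclass⟩, ?_⟩
  show colsOf _ = m
  rw [colsOf]
  conv_rhs => rw [← hcols]
  refine List.map_congr_left fun i hi => ?_
  show enc (dec (ap m (enc (dec (2 ^ i))))) = _
  rw [enc_dec (Nat.pow_lt_pow_right one_lt_two (List.mem_range.1 hi) : 2 ^ i < 2 ^ 12), enc_dec (ap_lt hlt' _)]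

theorem distinctL_nodup : ∀ {l : List (List ℕ)}, distinctL l = true → l.Nodup
  | [], _ => List.nodup_nil
  | a :: t, h => by
    simp only [distinctL, Bool.and_eq_true] at h
    refine List.nodup_cons.2 ⟨fun ha => ?_, distinctL_nodup h.2⟩
    simpa using List.all_eq_true.1 h.1 a ha

theorem nuP_class_all : ((List.range 64).all fun a => (List.range 64).all fun b =>
    clW (nuP (dec (64 * a + b))) == clW (dec (64 * a + b))) = true := by decide +kernel

theorem nu_mem : nuP ∈ Au := by
  have hK : ∀ p q : K4, FischerType.nuK (p + q) = FischerType.nuK p + FischerType.nuK q := by decide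
  refine mem_Au.2 ⟨fun u v => funext fun i => hK _ _, fun w => ?_⟩
  have h1 := List.all_eq_true.1 (List.all_eq_true.1 nuP_class_all (enc w / 64)
    (List.mem_range.2 (by have := enc_lt w; omega))) (enc w % 64) (List.mem_range.2 (by omega))
  rw [Nat.div_add_mod, beq_iff_eq, dec_enc] at h1
  exact h1

/-- `ν` as an element. -/
def nuA : Au := ⟨nuP, nu_mem⟩

theorem mat_nuA : mat nuA = nuM := rfl

theorem commute_nu_iff (f : Au) : f * nuA = nuA * f ↔ mulM (mat f) nuM = mulM nuM (mat f) := by
  rw [← mat_nuA, ← mat_mul, ← mat_mul]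
  exact ⟨congrArg mat, mat_inj⟩

theorem mat_getE_zero : mat 1 = getE 0 := by rw [mat_one, syl_first.1]

/-- The Sylow 2-subgroup of the list. -/
theorem exists_syl : ∃ P : Subgroup Au, (∀ f : Au, f ∈ P ↔ mat f ∈ sylL) ∧ Nat.card P = 512 ∧
    ∀ m ∈ sylL, ∃ f : Au, mat f = m := by
  classical
  obtain ⟨h0, hlen⟩ := syl_first
  have hmem : ∀ k < 512, getE k ∈ sylL := fun k hk => by
    rw [getE, List.getD_eq_getElem _ _ (hlen ▸ hk)]; exact List.getElem_mem _
  have hgetE : ∀ m ∈ sylL, ∃ k < 512, getE k = m := fun m hm => by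
    obtain ⟨k, hk, rfl⟩ := List.getElem_of_mem hm
    exact ⟨k, hlen ▸ hk, List.getD_eq_getElem _ _ hk⟩
  have hlift : ∀ k < 512, ∃ f : Au, mat f = getE k := by
    intro k
    induction k using Nat.strong_induction_on with
    | _ k ih =>
      intro hk
      rcases k with - | k
      · exact ⟨1, mat_getE_zero⟩
      · have h := List.all_eq_true.1 parents_ok k (List.mem_range.2 (by omega))
        simp only [Bool.and_eq_true, decide_eq_true_eq, beq_iff_eq] at h
        obtain ⟨⟨h1, h2⟩, h3⟩ := h
        obtain ⟨f, hf⟩ := ih _ (Nat.lt_succ_of_le h1) (by omega)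
        obtain ⟨g, hg⟩ := exists_of_good (List.all_eq_true.1 good_gens (gens.getD (parents.getD k (0, 0)).2 []) (by
          rw [List.getD_eq_getElem _ _ (show (parents.getD k (0, 0)).2 < gens.length from h2)]
          exact List.getElem_mem _))
        exact ⟨f * g, by rw [mat_mul, hf, hg, h3]⟩
  let S : Set Au := {f | mat f ∈ sylL}
  have hgen : ∀ f ∈ S, ∀ g : Au, ∀ j < 5, mat g = gens.getD j [] → f * g ∈ S := by
    intro f hf g j hj hg
    obtain ⟨k, hk, hkf⟩ := hgetE _ hf
    have h := List.all_eq_true.1 (List.all_eq_true.1 steps_ok k (List.mem_range.2 hk)) j (List.mem_range.2 hj)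
    simp only [Bool.and_eq_true, decide_eq_true_eq, beq_iff_eq] at h
    show mat (f * g) ∈ sylL
    rw [mat_mul, hg, ← hkf, h.2]
    exact hmem _ h.1
  have hmul : ∀ f ∈ S, ∀ g ∈ S, f * g ∈ S := by
    have key : ∀ k < 512, ∀ g : Au, mat g = getE k → ∀ f ∈ S, f * g ∈ S := by
      intro k
      induction k using Nat.strong_induction_on with
      | _ k ih =>
        intro hk g hg f hf
        rcases k with - | k
        · rwa [mat_inj (hg.trans mat_getE_zero.symm), mul_one]
        · have h := List.all_eq_true.1 parents_ok k (List.mem_range.2 (by omega))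
          simp only [Bool.and_eq_true, decide_eq_true_eq, beq_iff_eq] at h
          obtain ⟨⟨h1, h2⟩, h3⟩ := h
          obtain ⟨g1, hg1⟩ := hlift (parents.getD k (0, 0)).1 (by omega)
          obtain ⟨g2, hg2⟩ := exists_of_good (List.all_eq_true.1 good_gens
            (gens.getD (parents.getD k (0, 0)).2 []) (by
              rw [List.getD_eq_getElem _ _ (show (parents.getD k (0, 0)).2 < gens.length from h2)]
              exact List.getElem_mem _))
          rw [mat_inj (show mat g = mat (g1 * g2) by rw [hg, h3, mat_mul, hg1, hg2]), ← mul_assoc]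
          exact hgen _ (ih _ (Nat.lt_succ_of_le h1) (by omega) g1 hg1 f hf) g2 _ h2 hg2
    intro f hf g hg
    obtain ⟨k, hk, hkg⟩ := hgetE _ hg
    exact key k hk g hkg.symm f hf
  have hone : (1 : Au) ∈ S := by
    show mat 1 ∈ sylL
    rw [mat_getE_zero]; exact hmem 0 (by norm_num)
  let P : Subgroup Au :=
    { carrier := S
      mul_mem' := fun {f g} hf hg => hmul f hf g hg
      one_mem' := hone
      inv_mem' := fun {f} hf => by
        have hpow : ∀ n : ℕ, f ^ n ∈ S := fun n => by
          induction n with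
          | zero => rw [pow_zero]; exact hone
          | succ n ih => rw [pow_succ]; exact hmul _ ih _ hf
        rw [inv_eq_of_mul_eq_one_right (show f * f ^ (orderOf f - 1) = 1 by
          rw [← pow_succ', Nat.sub_add_cancel (orderOf_pos f), pow_orderOf_eq_one])]
        exact hpow _ }
  refine ⟨P, fun f => Iff.rfl, ?_, fun m hm => by
    obtain ⟨k, hk, rfl⟩ := hgetE m hm
    exact hlift k hk⟩
  have e : P ≃ {m // m ∈ sylL.toFinset} :=
    Equiv.ofBijective (fun f => ⟨mat f.1, List.mem_toFinset.2 f.2⟩)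
      ⟨fun a b h => Subtype.ext (mat_inj (congrArg Subtype.val h)), fun m => by
        obtain ⟨k, hk, hkm⟩ := hgetE _ (List.mem_toFinset.1 m.2)
        obtain ⟨f, hf⟩ := hlift k hk
        exact ⟨⟨f, show mat f ∈ sylL by rw [hf, hkm]; exact List.mem_toFinset.1 m.2⟩,
          Subtype.ext (hf.trans hkm)⟩⟩
  rw [Nat.card_congr e, Nat.card_eq_fintype_card, Fintype.card_coe,
    List.toFinset_card_of_nodup (distinctL_nodup syl_distinct), hlen]

theorem exists_oddEl {j : ℕ} (hj : j < oddEls.length) : ∃ f : Au, mat f = oddEls.getD j idM ∧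
    f * nuA = nuA * f ∧ ∃ g : Au, g * g = f := by
  obtain ⟨h1, -, h3⟩ := odd_ok
  have hget : oddEls.getD j idM = oddEls.getD j [] := by
    rw [List.getD_eq_getElem _ _ hj, List.getD_eq_getElem _ _ hj]
  have hmem : oddEls.getD j [] ∈ oddEls := by rw [List.getD_eq_getElem _ _ hj]; exact List.getElem_mem _
  obtain ⟨f, hf⟩ := exists_of_good (List.all_eq_true.1 good_odd _ (List.mem_cons_of_mem _ hmem))
  refine ⟨f, hf.trans hget.symm, (commute_nu_iff f).2 (by rw [hf]; simpa using List.all_eq_true.1 h1 _ hmem), ?_⟩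
  have h := List.all_eq_true.1 h3 j (List.mem_range.2 hj)
  simp only [Bool.and_eq_true, decide_eq_true_eq, beq_iff_eq] at h
  obtain ⟨hodd, hpow⟩ := h
  have key : ∀ n : ℕ, mat (f ^ n) = (Nat.rec idM (fun _ x => mulM x (oddEls.getD j [])) n : List ℕ) := fun n => by
    induction n with
    | zero => rw [pow_zero, mat_one]; rfl
    | succ n ih => rw [pow_succ, mat_mul, ih, hf]
  have hr : f ^ oddOrd.getD j 0 = 1 := mat_inj (by rw [key, hpow, mat_one])
  refine ⟨f ^ (oddOrd.getD j 0 / 2 + 1), ?_⟩
  rw [← pow_add, show oddOrd.getD j 0 / 2 + 1 + (oddOrd.getD j 0 / 2 + 1) = oddOrd.getD j 0 + 1 by omega,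
    pow_succ, hr, one_mul]

/-- Conjugating words: elements of `Au` commuting with `ν` that are products of squares. -/
theorem exists_word {w : List ℕ} (hw : ∀ j ∈ w, j < oddEls.length) : ∃ f : Au, mat f = wordEl w ∧
    f * nuA = nuA * f ∧ ∀ R : Subgroup Au, R.index = 2 → f ∈ R := by
  induction w with
  | nil => exact ⟨1, mat_one, by rw [one_mul, mul_one], fun R _ => R.one_mem⟩
  | cons j t ih =>
    obtain ⟨a, ha, hac, g, hg⟩ := exists_oddEl (hw j List.mem_cons_self)
    obtain ⟨b, hb, hbc, hbR⟩ := ih fun i hi => hw i (List.mem_cons_of_mem j hi)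
    refine ⟨a * b, by rw [mat_mul, ha, hb]; rfl, by rw [mul_assoc, hbc, ← mul_assoc, hac, mul_assoc],
      fun R hR => mul_mem (hg ▸ Subgroup.mul_self_mem_of_index_two hR g) (hbR R hR)⟩

/-- The first involution. -/
theorem exists_k1 : ∃ k : Au, mat k = getE k1Idx ∧ k * nuA = nuA * k ∧ ∀ R : Subgroup Au, R.index = 2 → k ∈ R := by
  obtain ⟨y, hy⟩ := exists_of_good (List.all_eq_true.1 good_odd rootEl List.mem_cons_self)
  have hk : mat (y * y) = getE k1Idx := by rw [mat_mul, hy, root_ok]
  refine ⟨y * y, hk, (commute_nu_iff _).2 ?_, fun R hR => Subgroup.mul_self_mem_of_index_two hR y⟩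
  rw [hk]
  simpa using List.all_eq_true.1 lin_comm _ (List.mem_map.2 ⟨k1Idx, words_ok.2.2.2, rfl⟩)

/-- An element with a word is a conjugate of the first involution. -/
theorem exists_conj {i : ℕ} (hi : i ∈ words.map Prod.fst) : ∃ (f k x : Au), mat f = getE i ∧
    mat k = getE k1Idx ∧ x * nuA = nuA * x ∧ f = x * k * x⁻¹ ∧
    ∀ R : Subgroup Au, R.index = 2 → f ∈ R ∧ k ∈ R ∧ x ∈ R := by
  obtain ⟨p, hp, rfl⟩ := List.mem_map.1 hi
  have h := List.all_eq_true.1 words_ok.1 p hp
  simp only [Bool.and_eq_true, decide_eq_true_eq, beq_iff_eq, List.all_eq_true] at h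
  obtain ⟨⟨hw, hlt⟩, he⟩ := h
  obtain ⟨x, hx, hxc, hxR⟩ := exists_word hw
  obtain ⟨k, hk, -, hkR⟩ := exists_k1
  refine ⟨x * k * x⁻¹, k, x, ?_, hk, hxc, rfl, fun R hR =>
    ⟨mul_mem (mul_mem (hxR R hR) (hkR R hR)) (inv_mem (hxR R hR)), hkR R hR, hxR R hR⟩⟩
  obtain ⟨P, hP, -, hlift⟩ := exists_syl
  obtain ⟨m, hm⟩ : ∃ m : Au, mat m = getE p.1 := by
    obtain ⟨h0, hlen⟩ := syl_first
    exact hlift _ (by rw [getE, List.getD_eq_getElem _ _ (hlen ▸ hlt)]; exact List.getElem_mem _)
  have : x * k * x⁻¹ = m := by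
    rw [mul_inv_eq_iff_eq_mul]
    exact mat_inj (by rw [mat_mul, mat_mul, hx, hk, hm, he])
  rw [this, hm]

end Cfsg.Agent.Lib.Fi24Type47
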