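import Mathlib
import Cfsg.Agent.Lib.Fi24Type47.Sylow

/-!
Elementary abelian subgroups of the Sylow 2-subgroup: only one of order 16 fixes more than eight vectors.
-/

set_option autoImplicit false

namespace Cfsg.Agent.Lib.Fi24Type47

open Cfsg.Agent.Lib.FischerType (K4 W6)

theorem kL_closed : kL.all (fun a => mulM a a == idM && linL.contains a &&
    kL.all fun b => kL.contains (mulM a b)) = true := by decide +kernel

theorem syl_contains : linL.all sylL.contains = true := by decide +kernel

/-- The members of the linear part lie in every subgroup of index two and commute with `ν`. -/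
theorem exists_lin {m : List ℕ} (hm : m ∈ linL) : ∃ f : Au, mat f = m ∧ m ∈ sylL ∧ f * nuA = nuA * f ∧
    ∀ R : Subgroup Au, R.index = 2 → f ∈ R := by
  obtain ⟨h0, hlen, hlenL, -, -, -, -, hlt, -⟩ := lin_shape
  have hlift : ∀ k < 128, ∃ f : Au, mat f = getE (linIdx.getD k 0) ∧
      ∀ R : Subgroup Au, R.index = 2 → f ∈ R := by
    intro k
    induction k using Nat.strong_induction_on with
    | _ k ih =>
      intro hk
      rcases k with - | k
      · refine ⟨1, ?_, fun R _ => R.one_mem⟩
        rw [mat_getE_zero]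
        congr 1
      · have h := List.all_eq_true.1 lin_parents_ok k (List.mem_range.2 (by omega))
        simp only [Bool.and_eq_true, decide_eq_true_eq, beq_iff_eq] at h
        obtain ⟨⟨h1, h2⟩, h3⟩ := h
        obtain ⟨f, hf, hfR⟩ := ih _ (Nat.lt_succ_of_le h1) (by omega)
        have hgm : linGens.getD (linParents.getD k (0, 0)).2 0 ∈ linGens := by
          rw [List.getD_eq_getElem _ _ h2]; exact List.getElem_mem _
        obtain ⟨g, gk, gx, hg, hgk, hgx, hge, hgR⟩ := exists_conj
          (List.contains_iff_mem.1 (List.all_eq_true.1 words_ok.2.1 _ hgm))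
        exact ⟨f * g, by rw [mat_mul, hf, hg, h3], fun R hR => mul_mem (hfR R hR) (hgR R hR).1⟩
  obtain ⟨i, hi, rfl⟩ := List.mem_map.1 hm
  obtain ⟨k, hk, rfl⟩ := List.getElem_of_mem hi
  obtain ⟨f, hf, hfR⟩ := hlift k (hlen ▸ hk)
  rw [List.getD_eq_getElem _ _ hk] at hf
  refine ⟨f, hf, ?_, (commute_nu_iff f).2 ?_, hfR⟩
  · exact List.contains_iff_mem.1 (List.all_eq_true.1 syl_contains _ hm)
  · rw [hf]; simpa using List.all_eq_true.1 lin_comm _ hm

theorem mem_tabP : ∀ (m : List ℕ) (w : ℕ), w < 2 ^ m.length → (ap m w, w) ∈ tabP m := by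
  intro m
  induction m with
  | nil =>
    intro w hw
    obtain rfl : w = 0 := by simpa using hw
    exact List.mem_singleton_self _
  | cons a t ih =>
    intro w hw
    refine List.mem_flatMap.2 ⟨_, ih (w / 2) (by rw [List.length_cons, pow_succ] at hw; omega), ?_⟩
    rcases Nat.mod_two_eq_zero_or_one w with h | h
    · refine List.mem_cons.2 (Or.inl ?_)
      simp only [ap, h, show ((0 : ℕ) == 1) = false from rfl, cond_false, Nat.zero_xor]
      rw [show 2 * (w / 2) = w by omega]
    · refine List.mem_cons.2 (Or.inr (List.mem_singleton.2 ?_))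
      simp only [ap, h, beq_self_eq_true, cond_true]
      rw [show 2 * (w / 2) + 1 = w by omega]

theorem mem_fixL {f : Au} {w : ℕ} (hw : w < 4096) (h : ap (mat f) w = w) : w ∈ fixL (mat f) := by
  refine List.mem_map.2 ⟨(ap (mat f) w, w), List.mem_filter.2 ⟨mem_tabP _ w ?_, by simp [h]⟩, rfl⟩
  rw [show (mat f).length = 12 by simp [mat, colsOf]]
  exact hw

/-- The conclusion at a subgroup. -/
def Concl (K : Finset Au) (X : Finset ℕ) (sm : List (List ℕ)) : Prop :=
  K.card ≤ 16 ∧ (16 ≤ K.card → X.card ≤ 8 ∨ ∀ f ∈ K, mat f ∈ kL) ∧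
    (8 ≤ K.card → ∀ o ∈ sm, (∀ w ∈ X, ap o w = w) → X.card ≤ 8)

theorem go_sound {K : Finset Au} {X : Finset ℕ} (hmul : ∀ f ∈ K, ∀ g ∈ K, f * g ∈ K)
    (hinv : ∀ f ∈ K, f * f = 1) (hfix : ∀ f ∈ K, ∀ w ∈ X, ap (mat f) w = w)
    (sm₀ : List (List ℕ)) (hsm₀ : ∀ o ∈ sm₀, ∀ f ∈ K, mulM (mat f) o = mulM o (mat f)) :
    ∀ n : ℕ, (∀ (S c : List (List ℕ)) (fl : List ℕ) (sm : List (List ℕ)), go n S c fl sm = true →
      ∀ S' : List Au, S'.map mat = S → (∀ f ∈ S', f ∈ K) → (1 : Au) ∈ S' → (∀ f ∈ S', ∀ g ∈ S', f * g ∈ S') →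
      (∀ f ∈ K, f ∈ S' ∨ mat f ∈ c) → (∀ w ∈ X, w ∈ fl) → (∀ o ∈ sm₀, o ∈ sm) → Concl K X sm₀) ∧
    (∀ (S c : List (List ℕ)) (fl : List ℕ) (sm : List (List ℕ)), goList n S c fl sm = true →
      ∀ S' : List Au, S'.map mat = S → (∀ f ∈ S', f ∈ K) → (1 : Au) ∈ S' → (∀ f ∈ S', ∀ g ∈ S', f * g ∈ S') →
      (∀ f ∈ K, f ∈ S' ∨ mat f ∈ c) → (∃ f ∈ K, f ∉ S') → (∀ w ∈ X, w ∈ fl) → (∀ o ∈ sm₀, o ∈ sm) →
      Concl K X sm₀) := by
  classical
  have hcomm : ∀ f ∈ K, ∀ g ∈ K, f * g = g * f := fun f hf g hg => by
    have h := hinv _ (hmul f hf g hg)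
    calc f * g = (f * g) * ((g * f) * (g * f)) := by rw [hinv _ (hmul g hg f hf), mul_one]
      _ = f * (g * g) * f * (g * f) := by simp only [mul_assoc]
      _ = g * f := by rw [hinv g hg, mul_one, hinv f hf, one_mul]
  intro n
  induction n with
  | zero =>
    refine ⟨fun S c fl sm h => by simp [go] at h, fun S c fl sm h S' _ _ _ _ hK hne _ _ => ?_⟩
    obtain ⟨f, hf, hfS⟩ := hne
    have hc := (hK f hf).resolve_left hfS
    cases c with
    | nil => simp at hc
    | cons a t => simp [goList] at h
  | succ n ih =>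
    refine ⟨fun S c fl sm h S' hS hSK hone hS2 hK hX hsm => ?_, fun S c fl sm h S' hS hSK hone hS2 hK hne hX hsm => ?_⟩
    · simp only [go, Bool.and_eq_true] at h
      obtain ⟨hleaf, hlist⟩ := h
      by_cases hne : ∃ f ∈ K, f ∉ S'
      · exact ih.2 S c fl sm hlist S' hS hSK hone hS2 hK hne hX hsm
      push Not at hne
      simp only [leafOk, Bool.and_eq_true, Bool.or_eq_true, decide_eq_true_eq] at hleaf
      obtain ⟨⟨h1, h2⟩, h3⟩ := hleaf
      have hKS : K.card ≤ S.length := by
        rw [← hS, List.length_map]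
        exact (Finset.card_le_card fun f hf => List.mem_toFinset.2 (hne f hf)).trans (List.toFinset_card_le _)
      have hXf : ∀ {l : List ℕ}, (∀ w ∈ X, w ∈ l) → X.card ≤ l.length := fun hl =>
        (Finset.card_le_card fun w hw => List.mem_toFinset.2 (hl w hw)).trans (List.toFinset_card_le _)
      refine ⟨hKS.trans h1, fun h16 => ?_, fun h8 o ho hox => ?_⟩
      · rcases h2 with (h2 | h2) | h2
        · omega
        · exact Or.inl ((hXf hX).trans h2)
        · refine Or.inr fun f hf => List.contains_iff_mem.1 (List.all_eq_true.1 h2 _ ?_)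
          rw [← hS]; exact List.mem_map_of_mem (hne f hf)
      · rcases h3 with h3 | h3
        · omega
        · have := List.all_eq_true.1 h3 o (hsm o ho)
          rw [decide_eq_true_eq] at this
          exact (hXf fun w hw => List.mem_filter.2 ⟨hX w hw, by simp [hox w hw]⟩).trans this
    · cases c with
      | nil =>
        obtain ⟨f, hf, hfS⟩ := hne
        simpa using (hK f hf).resolve_left hfS
      | cons i suf =>
        simp only [goList, Bool.and_eq_true, Bool.or_eq_true, Bool.not_eq_true'] at h
        obtain ⟨hhere, hrest⟩ := h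
        by_cases hi : ∃ g ∈ K, g ∉ S' ∧ mat g = i
        · obtain ⟨g, hg, hgS, rfl⟩ := hi
          have hnew : ∀ f ∈ S', g * f ∈ K ∧ g * f ∉ S' := fun f hf => by
            refine ⟨hmul g hg f (hSK f hf), fun hin => hgS ?_⟩
            have := hS2 _ hin f hf
            rwa [mul_assoc, hinv f (hSK f hf), mul_one] at this
          have hmap : (S'.map (g * ·)).map mat = S.map (mulM (mat g)) := by
            rw [← hS, List.map_map, List.map_map]
            exact List.map_congr_left fun f _ => mat_mul g f
          have hall : ((S.map (mulM (mat g))).all fun x => x == mat g || suf.contains x) = true := by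
            rw [← hmap, List.all_eq_true]
            intro x hx
            obtain ⟨f', hf', rfl⟩ := List.mem_map.1 hx
            obtain ⟨f, hf, rfl⟩ := List.mem_map.1 hf'
            rcases List.mem_cons.1 ((hK _ (hnew f hf).1).resolve_left (hnew f hf).2) with e | e
            · simp [e]
            · simp [e]
          rcases hhere with hh | hh
          · rw [hall] at hh; exact absurd hh (by simp)
          refine ih.1 _ _ _ _ hh (S' ++ S'.map (g * ·)) (by rw [List.map_append, hS, hmap]) ?_
            (List.mem_append_left _ hone) ?_ ?_ ?_ ?_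
          · intro f hf
            rcases List.mem_append.1 hf with hf | hf
            · exact hSK f hf
            · obtain ⟨a, ha, rfl⟩ := List.mem_map.1 hf; exact (hnew a ha).1
          · intro a ha b hb
            rcases List.mem_append.1 ha with ha | ha <;> rcases List.mem_append.1 hb with hb | hb
            · exact List.mem_append_left _ (hS2 a ha b hb)
            · obtain ⟨b, hb', rfl⟩ := List.mem_map.1 hb
              refine List.mem_append_right _ (List.mem_map.2 ⟨a * b, hS2 a ha b hb', ?_⟩)
              rw [← mul_assoc, ← mul_assoc, hcomm g hg a (hSK a ha)]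
            · obtain ⟨a, ha', rfl⟩ := List.mem_map.1 ha
              exact List.mem_append_right _ (List.mem_map.2 ⟨a * b, hS2 a ha' b hb, (mul_assoc _ _ _).symm⟩)
            · obtain ⟨a, ha', rfl⟩ := List.mem_map.1 ha
              obtain ⟨b, hb', rfl⟩ := List.mem_map.1 hb
              refine List.mem_append_left _ ?_
              rw [show g * a * (g * b) = g * g * (a * b) by
                rw [mul_assoc g a, ← mul_assoc a g b, ← hcomm g hg a (hSK a ha')]; simp only [mul_assoc],
                hinv g hg, one_mul]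
              exact hS2 a ha' b hb'
          · intro f hf
            by_cases hfS : f ∈ S' ++ S'.map (g * ·)
            · exact Or.inl hfS
            have hfS' : f ∉ S' := fun e => hfS (List.mem_append_left _ e)
            refine Or.inr (List.mem_filter.2 ⟨?_, ?_⟩)
            · rcases List.mem_cons.1 ((hK f hf).resolve_left hfS') with e | e
              · exfalso
                refine hfS (List.mem_append_right _ ?_)
                exact List.mem_map.2 ⟨1, hone, by rw [mul_one]; exact (mat_inj e).symm⟩
              · exact e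
            · rw [Bool.and_eq_true, beq_iff_eq, Bool.not_eq_true']
              refine ⟨?_, by rw [← mat_mul, ← mat_mul, hcomm g hg f hf]⟩
              rw [← hmap]
              by_contra hcon
              rw [Bool.not_eq_false, List.contains_iff_mem] at hcon
              obtain ⟨f', hf', e⟩ := List.mem_map.1 hcon
              exact hfS (List.mem_append_right _ (mat_inj e ▸ hf'))
          · exact fun w hw => List.mem_filter.2 ⟨hX w hw, by simp [hfix g hg w hw]⟩
          · exact fun o ho => List.mem_filter.2 ⟨hsm o ho, by simp [hsm₀ o ho g hg]⟩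
        · push Not at hi
          refine ih.2 S suf fl sm hrest S' hS hSK hone hS2 (fun f hf => ?_) hne hX hsm
          by_cases hfS : f ∈ S'
          · exact Or.inl hfS
          rcases List.mem_cons.1 ((hK f hf).resolve_left hfS) with e | e
          · exact absurd e (hi f hf hfS)
          · exact Or.inr e

/-- The search gives the conclusion for every elementary abelian subgroup of the linear part. -/
theorem concl_of_linear {K : Finset Au} {X : Finset ℕ} (hone : (1 : Au) ∈ K) (hmul : ∀ f ∈ K, ∀ g ∈ K, f * g ∈ K)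
    (hinv : ∀ f ∈ K, f * f = 1) (hlin : ∀ f ∈ K, mat f ∈ linL) (hX : ∀ w ∈ X, w < 4096)
    (hfix : ∀ f ∈ K, ∀ w ∈ X, ap (mat f) w = w)
    (sm₀ : List (List ℕ)) (hsm₀ : ∀ o ∈ sm₀, ∀ f ∈ K, mulM (mat f) o = mulM o (mat f))
    (hsem : ∀ o ∈ sm₀, o ∈ semInv) (h2 : 2 ≤ K.card) : Concl K X sm₀ := by
  classical
  have hne : ∃ f ∈ K, f ≠ 1 := Finset.exists_mem_ne (by omega) 1
  have key : ∀ c : List (List ℕ), topOk c = true → (∀ f ∈ K, f ≠ 1 → mat f ∈ c) → Concl K X sm₀ := by
    intro c
    induction c with
    | nil =>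
      intro _ hc
      obtain ⟨f, hf, hf1⟩ := hne
      simpa using hc f hf hf1
    | cons i suf ih =>
      intro h hc
      simp only [topOk, Bool.and_eq_true] at h
      by_cases hi : ∃ g ∈ K, g ≠ 1 ∧ mat g = i
      · obtain ⟨g, hg, hg1, rfl⟩ := hi
        refine (go_sound hmul hinv hfix sm₀ hsm₀ 200).1 _ _ _ _ h.1 [1, g] (by simp [mat_one]) ?_ (by simp) ?_ ?_ ?_ ?_
        · intro f hf; simp only [List.mem_cons, List.not_mem_nil, or_false] at hf
          rcases hf with rfl | rfl <;> assumption
        · intro a ha b hb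
          simp only [List.mem_cons, List.not_mem_nil, or_false] at ha hb
          have hgg := hinv g hg
          rcases ha with e | e <;> rcases hb with e' | e' <;> simp [e, e', hgg]
        · intro f hf
          by_cases hfS : f ∈ [1, g]
          · exact Or.inl hfS
          simp only [List.mem_cons, List.not_mem_nil, or_false, not_or] at hfS
          refine Or.inr (List.mem_filter.2 ⟨?_, ?_⟩)
          · exact (List.mem_cons.1 (hc f hf hfS.1)).resolve_left fun e => hfS.2 (mat_inj e)
          · rw [beq_iff_eq, ← mat_mul, ← mat_mul]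
            refine congrArg mat ?_
            have h := hinv _ (hmul g hg f hf)
            calc g * f = (g * f) * ((f * g) * (f * g)) := by rw [hinv _ (hmul f hf g hg), mul_one]
              _ = g * (f * f) * g * (f * g) := by simp only [mul_assoc]
              _ = f * g := by rw [hinv f hf, mul_one, hinv g hg, one_mul]
        · exact fun w hw => mem_fixL (hX w hw) (hfix g hg w hw)
        · exact fun o ho => List.mem_filter.2 ⟨hsem o ho, by simp [hsm₀ o ho g hg]⟩
      · push Not at hi
        exact ih h.2 fun f hf hf1 => (List.mem_cons.1 (hc f hf hf1)).resolve_left (hi f hf hf1)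
  refine key linInv top_ok fun f hf hf1 => List.mem_filter.2 ⟨hlin f hf, ?_⟩
  rw [Bool.and_eq_true, Bool.not_eq_true', beq_iff_eq, ← mat_mul, hinv f hf, mat_one]
  exact ⟨by simpa using fun e => hf1 (mat_inj (e.trans mat_one.symm)), rfl⟩

/-- An elementary abelian subgroup of the linear part and semilinear involutions commuting with it. -/
theorem concl_linear {K : Finset Au} {X : Finset ℕ} (hone : (1 : Au) ∈ K) (hmul : ∀ f ∈ K, ∀ g ∈ K, f * g ∈ K)
    (hinv : ∀ f ∈ K, f * f = 1) (hlin : ∀ f ∈ K, mat f ∈ linL) (hX : ∀ w ∈ X, w < 4096)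
    (hfix : ∀ f ∈ K, ∀ w ∈ X, ap (mat f) w = w) {o : Au} (ho : mat o ∈ semInv)
    (hoK : ∀ f ∈ K, f * o = o * f) (hox : ∀ w ∈ X, ap (mat o) w = w) (h8 : 8 ≤ K.card) :
    K.card ≤ 16 ∧ X.card ≤ 8 := by
  obtain ⟨h1, -, h3⟩ := concl_of_linear hone hmul hinv hlin hX hfix [mat o] (fun m hm f hf => by
    rw [List.mem_singleton.1 hm, ← mat_mul, ← mat_mul, hoK f hf]) (fun m hm => by
    rw [List.mem_singleton.1 hm]; exact ho) (by omega)
  exact ⟨h1, h3 h8 _ (List.mem_singleton_self _) hox⟩

end Cfsg.Agent.Lib.Fi24Type47
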