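import Mathlib
import Cfsg.Agent.Lib.FischerType.Pair
import Cfsg.Agent.Lib.FischerType.Outer
import Cfsg.Agent.Lib.Fi24Type47.Sylow

/-!
`C(z)/Q` as the group of permutations of the twelve-bit space preserving the classes: coordinates in which a given
2-subgroup lies in the listed Sylow 2-subgroup.
-/

set_option autoImplicit false

namespace Cfsg.Agent.Lib.Fi24Type47

open Cfsg.Agent.Lib.FischerType (K4 W6 wt blk Sing dg pwK repW FData vcl)

theorem scale_all : ((List.range 64).all fun a => (List.range 64).all fun b =>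
    let w := dec (64 * a + b)
    decide (w = 0) || decide (wt w % 2 = 1) || ((List.range 3).all fun j =>
      decide (blk (dg (Pi.single 0 (j : ZMod 3)) w) = 0 ∨
          blk (dg (Pi.single 0 (j : ZMod 3)) w) = (Fin.ofNat 5 (j + 2))) ==
        decide (blk w = 0 ∨ blk w = 2))) = true := by decide +kernel

theorem wt_dg (c : Fin 6 → ZMod 3) (w : W6) : wt (dg c w) = wt w := by
  unfold FischerType.wt
  congr 1
  ext i
  simp [FischerType.dg, FischerType.pwK_eq_zero]

theorem clW_iff (w : W6) (hs : Sing w) : clW w = 1 ↔ (blk w = 0 ∨ blk w = 2) := by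
  rw [clW, if_neg hs.1, if_neg (by have := hs.2; omega)]
  by_cases h : blk w = 0 ∨ blk w = 2 <;> simp [h]

variable {G : Type*} [Group G] {z : G} (Q : Subgroup (Subgroup.centralizer ({z} : Set G))) [Q.Normal]

/-- Coordinates in which a given 2-subgroup is in the listed Sylow 2-subgroup. -/
structure Rep (P : Subgroup (Subgroup.centralizer ({z} : Set G) ⧸ Q)) where
  D : FData z Q
  Ψ : W6 ≃+ Additive (Abelianization Q)
  ρ : Subgroup.centralizer ({z} : Set G) ⧸ Q →* Au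
  inj : Function.Injective ρ
  act : ∀ h w, Ψ (((ρ h : Au) : Equiv.Perm W6) w) = h • Ψ w
  form : ∀ w, D.form.q (Ψ w) = (wt w : ZMod 2)
  index : ρ.range.index = 2
  n : Subgroup.centralizer ({z} : Set G) ⧸ Q
  n_eq : ρ n = nuA
  card_cent : ∀ K : Subgroup Au, K ≤ ρ.range → (∀ f ∈ K, f * nuA = nuA * f) → Nat.card K ∣ 9797760
  semi : ∀ a ∈ ρ.range, ∀ b ∈ ρ.range, ¬ a * nuA = nuA * a → ¬ b * nuA = nuA * b → a * b * nuA = nuA * (a * b)
  le_syl : ∀ h ∈ P, mat (ρ h) ∈ sylL

theorem exists_rep [Finite G] (hF : Cfsg.IsOfLargeFischerTypeAt z Q)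
    (P : Subgroup (Subgroup.centralizer ({z} : Set G) ⧸ Q)) (hP : IsPGroup 2 P) : Nonempty (Rep Q P) := by
  classical
  haveI : Fact (Nat.Prime 2) := ⟨Nat.prime_two⟩
  obtain ⟨D⟩ := FischerType.exists_fdata hF
  haveI : Finite (Additive (Abelianization Q)) := Finite.of_equiv _ D.coord.Ψ.toEquiv
  obtain ⟨k, hk2, hsmall, -, -, -⟩ := D.orbits
  obtain ⟨j, hj3, hjk⟩ : ∃ j : ℕ, j < 3 ∧ k = Fin.ofNat 5 (j + 2) :=
    ⟨k.val - 2, by omega, Fin.ext (by
      have := k.isLt
      have : 2 ≤ k.val := hk2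
      simp only [Fin.ofNat]
      show k.val = (k.val - 2 + 2) % 5
      omega)⟩
  set c : Fin 6 → ZMod 3 := Pi.single 0 (j : ZMod 3) with hc
  let K0 := D.coord.scale c
  have hK0 : ∀ w, K0.Ψ w = D.coord.Ψ (dg c w) := fun _ => rfl
  have hblk : ∀ w, Sing w → ((blk (dg c w) = 0 ∨ blk (dg c w) = k) ↔ (blk w = 0 ∨ blk w = 2)) := by
    intro w hw
    have h1 := List.all_eq_true.1 (List.all_eq_true.1 scale_all (enc w / 64)
      (List.mem_range.2 (by have := enc_lt w; omega))) (enc w % 64) (List.mem_range.2 (by omega))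
    rw [Nat.div_add_mod] at h1
    simp only [dec_enc, Bool.or_eq_true, decide_eq_true_eq, List.all_eq_true, beq_iff_eq] at h1
    rcases h1 with (h1 | h1) | h1
    · exact absurd h1 hw.1
    · have := hw.2; omega
    · have := h1 j (List.mem_range.2 hj3)
      rw [decide_eq_decide, ← hjk, ← hc] at this
      exact this
  have hsing : ∀ w, Sing (dg c w) ↔ Sing w := fun w => by
    have : dg c w = 0 ↔ w = 0 := by
      constructor
      · intro h; funext i; exact (FischerType.pwK_eq_zero _ _).1 (congrFun h i)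
      · rintro rfl; funext i; exact (FischerType.pwK_eq_zero _ _).2 rfl
    rw [Sing, Sing, wt_dg, ne_eq, ne_eq, this]
  have hcl : ∀ (h : Subgroup.centralizer ({z} : Set G) ⧸ Q) (w : W6),
      clW (K0.Ψ.symm (h • K0.Ψ w)) = clW w := by
    intro h w
    set w' := K0.Ψ.symm (h • K0.Ψ w) with hw'
    have he : h • K0.Ψ w = K0.Ψ w' := (AddEquiv.apply_symm_apply _ _).symm
    have h0 : w' = 0 ↔ w = 0 := by
      rw [hw', EmbeddingLike.map_eq_zero_iff, smul_eq_zero_iff_eq, EmbeddingLike.map_eq_zero_iff]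
    have hpar : wt w' % 2 = wt w % 2 := by
      refine (ZMod.natCast_eq_natCast_iff' _ _ _).1 ?_
      rw [← K0.form, ← K0.form, ← he, D.form.inv]
    have hkey : Sing w → ((blk w = 0 ∨ blk w = 2) ↔ (blk w' = 0 ∨ blk w' = 2)) := by
      intro hs
      have hs' : Sing w' := ⟨fun e => hs.1 (h0.1 e), by rw [hpar]; exact hs.2⟩
      rw [← hblk w hs, ← hblk w' hs', ← hsmall _ ((hsing w).2 hs), ← hsmall _ ((hsing w').2 hs'), ← hK0, ← hK0,
        ← he]
      exact ⟨fun ⟨g, hg⟩ => ⟨h * g, by rw [mul_smul, hg]⟩,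
        fun ⟨g, hg⟩ => ⟨h⁻¹ * g, by rw [mul_smul, hg, inv_smul_smul]⟩⟩
    by_cases hw0 : w = 0
    · rw [hw0, h0.2 hw0]
    by_cases hodd : wt w % 2 = 1
    · rw [clW, clW, if_neg hw0, if_neg (fun e => hw0 (h0.1 e)), if_pos hodd, if_pos (by rw [hpar]; exact hodd)]
    rw [clW, clW, if_neg hw0, if_neg (fun e => hw0 (h0.1 e)), if_neg hodd, if_neg (by rw [hpar]; exact hodd)]
    simp only [hkey ⟨hw0, by omega⟩]
  let f0 : Subgroup.centralizer ({z} : Set G) ⧸ Q → Au := fun h =>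
    ⟨(K0.Ψ.trans ((DistribMulAction.toAddEquiv _ h).trans K0.Ψ.symm)).toEquiv,
      fun u v => map_add (K0.Ψ.trans ((DistribMulAction.toAddEquiv _ h).trans K0.Ψ.symm)) u v, fun w => hcl h w⟩
  let ρ0 : Subgroup.centralizer ({z} : Set G) ⧸ Q →* Au := MonoidHom.mk' f0 fun a b => Subtype.ext (Equiv.ext fun w => by
    show K0.Ψ.symm ((a * b) • K0.Ψ w) = K0.Ψ.symm (a • K0.Ψ (K0.Ψ.symm (b • K0.Ψ w)))
    rw [AddEquiv.apply_symm_apply, mul_smul])
  have hact0 : ∀ h w, K0.Ψ (((ρ0 h : Au) : Equiv.Perm W6) w) = h • K0.Ψ w := fun h w =>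
    AddEquiv.apply_symm_apply _ _
  have hinj0 : Function.Injective ρ0 := fun a b e => by
    refine inv_mul_eq_one.1 (D.S.faithful _ fun x => ?_)
    obtain ⟨w, rfl⟩ := K0.Ψ.surjective x
    rw [mul_smul, ← hact0 b, ← e, hact0 a, inv_smul_smul]
  have hnu0 : ρ0 D.S.n = nuA := Subtype.ext (Equiv.ext fun w => K0.Ψ.injective (by
    rw [hact0]; exact (K0.nu w).symm))
  have hdvd : 19595520 ∣ Nat.card Au := by
    rw [← D.card_L, Nat.card_congr (MonoidHom.ofInjective hinj0).toEquiv]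
    exact Subgroup.card_subgroup_dvd_card _
  obtain ⟨P9, hP9, hP9c, -⟩ := exists_syl
  have h512 : 512 ∣ Nat.card Au := hP9c ▸ Subgroup.card_subgroup_dvd_card P9
  have hAu : Nat.card Au = 39191040 := by
    have hle := card_Au_le
    obtain ⟨a, ha⟩ := hdvd
    obtain ⟨b, hb⟩ := h512
    have hpos : 0 < Nat.card Au := Nat.card_pos
    omega
  let Sy : Sylow 2 Au := Sylow.ofCard P9 (by
    rw [hP9c, hAu, show (39191040 : ℕ) = 2 ^ 9 * 76545 by norm_num,
      Nat.factorization_mul (by norm_num) (by norm_num), Finsupp.add_apply,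
      Nat.Prime.factorization_pow Nat.prime_two, Finsupp.single_eq_same,
      Nat.factorization_eq_zero_of_not_dvd (by norm_num : ¬ 2 ∣ 76545)]
    norm_num)
  obtain ⟨S', hS'⟩ := (hP.map ρ0).exists_le_sylow
  obtain ⟨g, hg⟩ := MulAction.exists_smul_eq Au S' Sy
  have hgP : ∀ h ∈ P, mat (g * ρ0 h * g⁻¹) ∈ sylL := by
    intro h hh
    refine (hP9 _).1 ?_
    have h1 : g * ρ0 h * g⁻¹ ∈ ((g • S' : Sylow 2 Au) : Subgroup Au) := by
      rw [Sylow.coe_subgroup_smul]
      exact Subgroup.smul_mem_pointwise_smul _ (MulAut.conj g) _ (hS' ⟨h, hh, rfl⟩)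
    rw [hg] at h1
    exact h1
  let gg : W6 ≃+ W6 := { toEquiv := (g : Equiv.Perm W6), map_add' := (mem_Au.1 g.2).1 }
  set ρ : Subgroup.centralizer ({z} : Set G) ⧸ Q →* Au := (MulAut.conj g).toMonoidHom.comp ρ0 with hρ
  have hidx : ρ.range.index = 2 := by
    have hi := ρ.range.card_mul_index
    have hinj : Function.Injective ρ := (MulAut.conj g).injective.comp hinj0
    rw [← Nat.card_congr (MonoidHom.ofInjective hinj).toEquiv, D.card_L, hAu] at hi
    omega
  haveI hnorm : ρ0.range.Normal := Subgroup.normal_of_index_eq_two (by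
    have hi := ρ0.range.card_mul_index
    rw [← Nat.card_congr (MonoidHom.ofInjective hinj0).toEquiv, D.card_L, hAu] at hi
    omega)
  have hrange : ρ.range = ρ0.range := by
    ext f
    constructor
    · rintro ⟨h, rfl⟩; exact hnorm.conj_mem _ ⟨h, rfl⟩ g
    · intro hf
      obtain ⟨h, hh⟩ := hnorm.conj_mem f hf g⁻¹
      exact ⟨h, by show g * ρ0 h * g⁻¹ = f; rw [hh]; group⟩
  obtain ⟨n, hn⟩ : nuA ∈ ρ.range := hrange ▸ ⟨D.S.n, hnu0⟩
  refine ⟨⟨D, gg.symm.trans K0.Ψ, ρ, (MulAut.conj g).injective.comp hinj0, fun h w => ?_, fun w => ?_, hidx, n, hn,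
    fun K hK hKc => ?_, ?_, hgP⟩⟩
  · show K0.Ψ ((g : Equiv.Perm W6).symm ((g : Equiv.Perm W6) (((ρ0 h : Au) : Equiv.Perm W6)
      ((g : Equiv.Perm W6).symm w)))) = h • K0.Ψ ((g : Equiv.Perm W6).symm w)
    rw [Equiv.symm_apply_apply, hact0]
  · show D.form.q (K0.Ψ ((g : Equiv.Perm W6).symm w)) = _
    rw [K0.form]
    refine (ZMod.natCast_eq_natCast_iff' _ _ _).2 ?_
    have h1 := (mem_Au.1 g.2).2 ((g : Equiv.Perm W6).symm w)
    rw [Equiv.apply_symm_apply] at h1
    unfold clW at h1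
    generalize (g : Equiv.Perm W6).symm w = v at h1 ⊢
    have hw0 : wt (0 : W6) = 0 := by simp [FischerType.wt]
    split_ifs at h1 <;> first
      | omega
      | (subst_vars; simp_all)
  · refine (Subgroup.card_dvd_of_le (fun f hf => ?_ : K ≤ D.S.M.map ρ0)).trans ?_
    · obtain ⟨h, rfl⟩ := hrange ▸ hK hf
      refine ⟨h, (D.commute_iff hF h).1 (hinj0 ?_), rfl⟩
      rw [map_mul, map_mul, hnu0]
      exact hKc _ hf
    · rw [Nat.card_congr (D.S.M.equivMapOfInjective ρ0 hinj0).toEquiv.symm]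
      have h1 := D.S.M.card_mul_index
      rw [D.index_M, D.card_L] at h1
      exact dvd_of_eq (by omega)
  · intro a ha b hb hna hnb
    obtain ⟨x, rfl⟩ := hrange ▸ ha
    obtain ⟨y, rfl⟩ := hrange ▸ hb
    have key : ∀ u, (ρ0 u * nuA = nuA * ρ0 u ↔ u ∈ D.S.M) := fun u => by
      rw [← D.commute_iff hF u, ← hnu0, ← map_mul, ← map_mul]
      exact hinj0.eq_iff
    rw [← map_mul, key, Subgroup.mul_mem_iff_of_index_two D.index_M]
    exact iff_of_false (fun e => hna ((key x).2 e)) (fun e => hnb ((key y).2 e))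

end Cfsg.Agent.Lib.Fi24Type47
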