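import Mathlib
import Cfsg.Agent.Lib.Fi24Type47.Rep

/-!
Lifts to `C(z)` fixed by an element of order three acting without fixed points on `Q` modulo its centre.
-/

set_option autoImplicit false

namespace Cfsg.Agent.Lib.Fi24Type47

open Cfsg.Agent.Lib.FischerType (K4 W6 wt FData vcl inG bit)

variable {G : Type*} [Group G] {z : G} {Q : Subgroup (Subgroup.centralizer ({z} : Set G))} [Q.Normal]
  {P : Subgroup (Subgroup.centralizer ({z} : Set G) ⧸ Q)} (R : Rep Q P)

theorem nuA_facts : nuA * nuA * nuA = 1 ∧ ∀ w : W6, nuP w = w → w = 0 := by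
  have h3 : ∀ p : K4, FischerType.nuK (FischerType.nuK (FischerType.nuK p)) = p := by decide
  have h1 : ∀ p : K4, FischerType.nuK p = p → p = 0 := by decide
  refine ⟨Subtype.ext (Equiv.ext fun w => funext fun i => ?_), fun w h => funext fun i => h1 _ (congrFun h i)⟩
  exact h3 (w i)

theorem nu_solve : ∀ p : K4, p + FischerType.nuK (FischerType.nuK p) = FischerType.nuK p := by decide

theorem nu_solve2 : ∀ p : K4, FischerType.nuK p + p = FischerType.nuK (FischerType.nuK p) ∧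
    p + p = 0 ∧ p + FischerType.nuK p + FischerType.nuK (FischerType.nuK p) = 0 ∧
    FischerType.nuK (FischerType.nuK (FischerType.nuK p)) = p := by decide

namespace Rep

/-- The coordinates of an element of `Q`. -/
noncomputable def vv (a : Q) : W6 := R.Ψ.symm (vcl Q a)

theorem vv_mul (a b : Q) : R.vv (a * b) = R.vv a + R.vv b := by
  rw [vv, FischerType.vcl_mul, map_add]; rfl

theorem vv_surj (w : W6) : ∃ a : Q, R.vv a = w := by
  obtain ⟨a, ha⟩ := FischerType.vcl_surjective (Q := Q) (R.Ψ w)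
  exact ⟨a, by rw [vv, ha, AddEquiv.symm_apply_apply]⟩

theorem vv_eq_iff (a b : Q) : R.vv a = R.vv b ↔ inG z Q b = inG z Q a ∨ inG z Q b = inG z Q a * z := by
  rw [← R.D.vcl_eq_iff]
  exact R.Ψ.symm.injective.eq_iff

theorem vv_one : R.vv 1 = 0 := by
  have h := R.vv_mul 1 1
  rw [mul_one] at h
  exact left_eq_add.1 h

theorem vv_zero_iff (a : Q) : R.vv a = 0 ↔ inG z Q a = 1 ∨ inG z Q a = z := by
  rw [← R.vv_one, eq_comm, R.vv_eq_iff]
  simp [inG]

theorem vv_parity (a : Q) : wt (R.vv a) % 2 = 0 ↔ inG z Q a * inG z Q a = 1 := by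
  rw [← FischerType.bit_eq_zero_iff, ← R.D.form_vcl, ← R.Ψ.apply_symm_apply (vcl Q a), R.form,
    ← Nat.dvd_iff_mod_eq_zero, ← ZMod.natCast_eq_zero_iff]
  rfl

theorem vv_conj (c : Subgroup.centralizer ({z} : Set G)) (a : Q) :
    R.vv (MulAut.conjNormal c a) = ((R.ρ (QuotientGroup.mk c) : Au) : Equiv.Perm W6) (R.vv a) := by
  refine R.Ψ.injective ?_
  rw [R.act, vv, vv, AddEquiv.apply_symm_apply, AddEquiv.apply_symm_apply, FischerType.smul_vcl]

/-- The image of an element in the permutation group. -/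
def img : Subgroup.centralizer ({z} : Set G) →* Au := R.ρ.comp (QuotientGroup.mk' Q)

theorem img_eq_one_iff (c : Subgroup.centralizer ({z} : Set G)) : R.img c = 1 ↔ c ∈ Q := by
  rw [← QuotientGroup.eq_one_iff, ← R.inj.eq_iff (b := 1), map_one]
  rfl

theorem img_eq_iff (a b : Subgroup.centralizer ({z} : Set G)) : R.img a = R.img b ↔ a⁻¹ * b ∈ Q := by
  rw [← R.img_eq_one_iff, map_mul, map_inv, inv_mul_eq_one]

theorem vv_img {c : Subgroup.centralizer ({z} : Set G)} (a : Q) (b : Q)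
    (h : c * (a : Subgroup.centralizer ({z} : Set G)) * c⁻¹ = b) :
    ((R.img c : Au) : Equiv.Perm W6) (R.vv a) = R.vv b := by
  rw [show b = MulAut.conjNormal c a from Subtype.ext (by rw [MulAut.conjNormal_apply]; exact h.symm), R.vv_conj]
  rfl

/-- The central involution. -/
def zC (z : G) : Subgroup.centralizer ({z} : Set G) := ⟨z, Subgroup.mem_centralizer_singleton_iff.2 rfl⟩

theorem zC_comm (c : Subgroup.centralizer ({z} : Set G)) : c * zC z = zC z * c :=
  Subtype.ext (Subgroup.mem_centralizer_singleton_iff.1 c.2)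

include R in
theorem zC_facts : zC z ∈ Q ∧ zC z * zC z = 1 ∧ zC z ≠ 1 :=
  ⟨(FischerType.mem_map_iff (zC z)).1 R.D.good.x_mem, Subtype.ext R.D.good.x_sq,
    fun h => R.D.good.x_ne (congrArg Subtype.val h)⟩

theorem eq_of_vv_zero {a : Subgroup.centralizer ({z} : Set G)} (ha : a ∈ Q) (h : R.vv ⟨a, ha⟩ = 0) :
    a = 1 ∨ a = zC z := by
  rcases (R.vv_zero_iff _).1 h with e | e
  · exact Or.inl (Subtype.ext e)
  · exact Or.inr (Subtype.ext e)

/-- A lift of `n` of order three. -/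
theorem exists_nh : ∃ c : Subgroup.centralizer ({z} : Set G), c * c * c = 1 ∧ R.img c = nuA := by
  obtain ⟨x, hx⟩ := QuotientGroup.mk_surjective R.n
  have hxi : R.img x = nuA := by show R.ρ (QuotientGroup.mk x) = _; rw [hx, R.n_eq]
  have h3 : x * x * x ∈ Q := by
    rw [← R.img_eq_one_iff, map_mul, map_mul, hxi, nuA_facts.1]
  have hsq : ((x * x * x) * (x * x * x)) * ((x * x * x) * (x * x * x)) = 1 := by
    rcases R.D.good.sq_cases ((FischerType.mem_map_iff (x * x * x)).2 h3) with e | e <;>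
      refine Subtype.ext ?_
    · show (_ * _) * (_ * _) = (1 : G)
      simp only [Subgroup.coe_mul] at e ⊢
      rw [e, one_mul]
    · simp only [Subgroup.coe_mul] at e ⊢
      rw [e, R.D.good.x_sq]; rfl
  refine ⟨x * x * (x * x), ?_, ?_⟩
  · refine Eq.trans ?_ hsq
    simp only [mul_assoc]
  · rw [map_mul, map_mul, hxi, ← mul_assoc, nuA_facts.1, one_mul]

variable {R} {nh : Subgroup.centralizer ({z} : Set G)} (h3 : nh * nh * nh = 1) (hn : R.img nh = nuA)

include h3 hn

theorem vv_nh (q : Q) (b : Q) (h : nh * (q : Subgroup.centralizer ({z} : Set G)) * nh⁻¹ = b) :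
    R.vv b = nuP (R.vv q) := by
  rw [← R.vv_img q b h, hn]; rfl

/-- An element of `Q` fixed by the lift is central. -/
theorem fixed_Q {q : Subgroup.centralizer ({z} : Set G)} (hq : q ∈ Q) (h : nh * q = q * nh) :
    q = 1 ∨ q = zC z := by
  refine R.eq_of_vv_zero hq (nuA_facts.2 _ ?_)
  exact (vv_nh h3 hn ⟨q, hq⟩ ⟨q, hq⟩ (mul_inv_eq_iff_eq_mul.2 h)).symm

/-- Elements commuting with `ν` have lifts fixed by the lift. -/
theorem exists_fixed {c : Subgroup.centralizer ({z} : Set G)} (hc : R.img c * nuA = nuA * R.img c) :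
    ∃ a : Subgroup.centralizer ({z} : Set G), R.img a = R.img c ∧ nh * a = a * nh := by
  have hp : c⁻¹ * (nh * c * nh⁻¹) ∈ Q := by
    rw [← R.img_eq_iff, map_mul, map_mul, map_inv, hn, ← hc]; group
  set p : Q := ⟨_, hp⟩ with hpdef
  obtain ⟨q, hq⟩ := R.vv_surj (nuP (R.vv p))
  set a : Subgroup.centralizer ({z} : Set G) := c * q with ha
  have hai : R.img a = R.img c := by
    rw [ha, map_mul, (R.img_eq_one_iff _).2 q.2, mul_one]
  refine ⟨a, hai, ?_⟩
  have hq' : nh * (q : Subgroup.centralizer ({z} : Set G)) * nh⁻¹ ∈ Q :=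
    (inferInstance : Q.Normal).conj_mem _ q.2 nh
  set q' : Q := ⟨_, hq'⟩ with hq'def
  have hd : a⁻¹ * (nh * a * nh⁻¹) = ((q⁻¹ * p * q' : Q) : Subgroup.centralizer ({z} : Set G)) := by
    simp only [ha, hpdef, hq'def, Subgroup.coe_mul, Subgroup.coe_inv]
    group
  have hv : R.vv (q⁻¹ * p * q') = 0 := by
    have hinv : R.vv q⁻¹ = R.vv q := by
      have h := R.vv_mul q⁻¹ q
      rw [inv_mul_cancel, R.vv_one] at h
      funext i
      have h' := congrFun h.symm i
      exact (add_eq_zero_iff_eq_neg.1 h').trans (by generalize R.vv q i = u; revert u; decide)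
    rw [R.vv_mul, R.vv_mul, hinv, vv_nh h3 hn q q' rfl, hq]
    funext i
    show FischerType.nuK (R.vv p i) + R.vv p i + FischerType.nuK (FischerType.nuK (R.vv p i)) = 0
    rw [(nu_solve2 _).1]; exact (nu_solve2 _).2.1
  obtain ⟨ζ, hζ, hζz⟩ : ∃ ζ : Subgroup.centralizer ({z} : Set G), nh * a * nh⁻¹ = a * ζ ∧ (ζ = 1 ∨ ζ = zC z) :=
    ⟨_, (mul_inv_cancel_left a _).symm, hd ▸ R.eq_of_vv_zero (q⁻¹ * p * q' : Q).2 hv⟩
  rcases hζz with rfl | rfl
  · rw [mul_one] at hζ; exact mul_inv_eq_iff_eq_mul.1 hζ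
  · exfalso
    have hfix : nh * zC z * nh⁻¹ = zC z := mul_inv_eq_iff_eq_mul.2 (zC_comm nh)
    have h2 : nh * (a * zC z) * nh⁻¹ = a := by
      calc nh * (a * zC z) * nh⁻¹ = nh * a * nh⁻¹ * (nh * zC z * nh⁻¹) := by group
        _ = a := by rw [hζ, hfix, mul_assoc, R.zC_facts.2.1, mul_one]
    have e : a = a * zC z := by
      calc a = (nh * nh * nh) * a * (nh * nh * nh)⁻¹ := by rw [h3]; group
        _ = nh * (nh * (nh * a * nh⁻¹) * nh⁻¹) * nh⁻¹ := by group
        _ = a * zC z := by rw [hζ, h2, hζ]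
    exact R.zC_facts.2.2 (left_eq_mul.1 e)

/-- Squares of fixed lifts of conjugate elements agree. -/
theorem sq_conj {a b c : Subgroup.centralizer ({z} : Set G)} (ha : nh * a = a * nh) (hb : nh * b = b * nh)
    (hc : R.img c * nuA = nuA * R.img c) (hab : R.img b = R.img c * R.img a * (R.img c)⁻¹)
    (hsq : a * a = 1 ∨ a * a = zC z) : b * b = a * a := by
  obtain ⟨d, hd, hdn⟩ := exists_fixed h3 hn hc
  have hq : b⁻¹ * (d * a * d⁻¹) ∈ Q := by
    rw [← R.img_eq_iff, map_mul, map_mul, map_inv, hd, hab]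
  have hfix : nh * (b⁻¹ * (d * a * d⁻¹)) = b⁻¹ * (d * a * d⁻¹) * nh :=
    ((Commute.inv_right hb).mul_right ((Commute.mul_right (Commute.mul_right hdn ha) (Commute.inv_right hdn)))).eq
  have hsq' : d * a * d⁻¹ * (d * a * d⁻¹) = a * a := by
    rw [show d * a * d⁻¹ * (d * a * d⁻¹) = d * (a * a) * d⁻¹ by group]
    rcases hsq with e | e <;> rw [e]
    · group
    · rw [zC_comm d, mul_inv_cancel_right]
  rcases fixed_Q h3 hn hq hfix with e | e
  · rw [inv_mul_eq_one.1 e]; exact hsq'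
  · rw [inv_mul_eq_iff_eq_mul] at e
    rw [e] at hsq'
    rw [← hsq', mul_assoc b (zC z), ← mul_assoc (zC z) b, ← zC_comm b, mul_assoc b, R.zC_facts.2.1, mul_one]

end Rep

end Cfsg.Agent.Lib.Fi24Type47
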