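import Mathlib
import Cfsg.Agent.Lib.Fi24Type47.Lift
import Cfsg.Agent.Lib.Fi24Type47.Elem

/-!
The elementary abelian subgroup of order `2^11`.
-/

set_option autoImplicit false

namespace Cfsg.Agent.Lib.Fi24Type47

open Cfsg.Agent.Lib.FischerType (K4 W6 wt FData vcl inG)

theorem fixK_complete : ((List.range 64).all fun a => (List.range 64).all fun b =>
    !(kL.all fun m => ap m (64 * a + b) == 64 * a + b) || fixK.contains (64 * a + b)) = true := by decide +kernel

theorem fixK_nodup : fixK.Nodup := by decide +kernel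

theorem kL_lin : ∀ m ∈ kL, m ∈ linL := fun m hm => by
  have h := List.all_eq_true.1 kL_closed m hm
  simp only [Bool.and_eq_true] at h
  exact List.contains_iff_mem.1 h.1.2

/-- The subgroup of order 16. -/
theorem exists_kGroup : ∃ K : Subgroup Au, (∀ f : Au, f ∈ K ↔ mat f ∈ kL) ∧ Nat.card K = 16 ∧
    (∀ f ∈ K, f * f = 1) ∧ ∀ m ∈ kL, ∃ f : Au, mat f = m := by
  classical
  have hlift : ∀ m ∈ kL, ∃ f : Au, mat f = m := fun m hm => by
    obtain ⟨f, hf, -⟩ := exists_lin (kL_lin m hm)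
    exact ⟨f, hf⟩
  have hsq : ∀ f : Au, mat f ∈ kL → f * f = 1 := fun f hf => mat_inj (by
    have h := List.all_eq_true.1 kL_closed _ hf
    simp only [Bool.and_eq_true, beq_iff_eq] at h
    rw [mat_mul, h.1.1, mat_one])
  have hk0 : getE 0 ∈ kL := by
    obtain ⟨-, -, -, -, h, -, -, -, -⟩ := lin_shape
    exact List.mem_map.2 ⟨0, List.mem_of_mem_head? h, rfl⟩
  let K : Subgroup Au :=
    { carrier := {f | mat f ∈ kL}
      mul_mem' := fun {f g} hf hg => by
        have h := List.all_eq_true.1 kL_closed _ hf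
        simp only [Bool.and_eq_true, List.all_eq_true] at h
        show mat (f * g) ∈ kL
        rw [mat_mul]; exact List.contains_iff_mem.1 (h.2 _ hg)
      one_mem' := by show mat 1 ∈ kL; rw [mat_getE_zero]; exact hk0
      inv_mem' := fun {f} hf => by rwa [inv_eq_of_mul_eq_one_right (hsq f hf)] }
  refine ⟨K, fun f => Iff.rfl, ?_, fun f hf => hsq f hf, hlift⟩
  obtain ⟨-, -, -, -, -, hlen, hnd, -, -⟩ := lin_shape
  have e : K ≃ {m // m ∈ kL.toFinset} :=
    Equiv.ofBijective (fun f => ⟨mat f.1, List.mem_toFinset.2 f.2⟩)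
      ⟨fun a b h => Subtype.ext (mat_inj (congrArg Subtype.val h)), fun m => by
        obtain ⟨f, hf⟩ := hlift _ (List.mem_toFinset.1 m.2)
        exact ⟨⟨f, show mat f ∈ kL by rw [hf]; exact List.mem_toFinset.1 m.2⟩, Subtype.ext hf⟩⟩
  rw [Nat.card_congr e, Nat.card_eq_fintype_card, Fintype.card_coe,
    List.toFinset_card_of_nodup (distinctL_nodup hnd), hlen]

theorem k_conj {f : Au} (hf : mat f ∈ kL) (h1 : f ≠ 1) : ∃ k x : Au, mat k = getE k1Idx ∧ x * nuA = nuA * x ∧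
    f = x * k * x⁻¹ ∧ ∀ R : Subgroup Au, R.index = 2 → k ∈ R ∧ x ∈ R := by
  obtain ⟨i, hi, hie⟩ := List.mem_map.1 hf
  obtain ⟨-, -, -, -, h0, -, -, -, -⟩ := lin_shape
  have hit : i ∈ kIdx.tail := by
    cases hk : kIdx with
    | nil => rw [hk] at hi; simp at hi
    | cons a t =>
      rw [hk] at hi h0
      rcases List.mem_cons.1 hi with rfl | h
      · simp only [List.head?_cons, Option.some.injEq] at h0
        subst h0
        exact absurd (mat_inj (hie.symm.trans mat_getE_zero.symm)) h1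
      · exact h
  obtain ⟨f', k, x, hf', hk, hxc, he, hR⟩ :=
    exists_conj (List.contains_iff_mem.1 (List.all_eq_true.1 words_ok.2.2.1 i hit))
  refine ⟨k, x, hk, hxc, ?_, fun R hR' => (hR R hR').2⟩
  rw [← he]
  exact mat_inj (hie.symm.trans hf'.symm)

variable {G : Type*} [Group G] {z : G} {Q : Subgroup (Subgroup.centralizer ({z} : Set G))} [Q.Normal]
  {P : Subgroup (Subgroup.centralizer ({z} : Set G) ⧸ Q)} (R : Rep Q P)

namespace Rep

/-- The orders of a subgroup, of its intersection with `Q`, and of its image. -/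
theorem card_split (B : Subgroup (Subgroup.centralizer ({z} : Set G))) :
    Nat.card ↥(B ⊓ Q) * Nat.card ↥(B.map R.img) = Nat.card B := by
  let f : B →* Au := R.img.comp B.subtype
  have hk : Nat.card f.ker = Nat.card ↥(B ⊓ Q) := Nat.card_congr
    { toFun := fun x => ⟨x.1.1, x.1.2, (R.img_eq_one_iff _).1 x.2⟩
      invFun := fun x => ⟨⟨x.1, x.2.1⟩, (R.img_eq_one_iff _).2 x.2.2⟩
      left_inv := fun _ => rfl
      right_inv := fun _ => rfl }
  have hr : f.range = B.map R.img := by rw [MonoidHom.range_comp, Subgroup.range_subtype]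
  have h := f.ker.card_mul_index
  rwa [Subgroup.index_ker, hr, hk] at h

/-- Two elements of `Q` with the same vector. -/
theorem eq_of_vv {a b : Q} (h : R.vv a = R.vv b) : (b : Subgroup.centralizer ({z} : Set G)) = a ∨
    (b : Subgroup.centralizer ({z} : Set G)) = a * zC z := by
  rcases (R.vv_eq_iff a b).1 h with e | e
  · exact Or.inl (Subtype.ext e)
  · exact Or.inr (Subtype.ext e)

/-- The subgroup of `Q` over the fixed vectors. -/
def X0 : Subgroup (Subgroup.centralizer ({z} : Set G)) where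
  carrier := {c | ∃ h : c ∈ Q, enc (R.vv ⟨c, h⟩) ∈ fixK}
  one_mem' := ⟨Q.one_mem, by
    rw [show (⟨1, Q.one_mem⟩ : Q) = 1 from rfl, R.vv_one]
    exact List.contains_iff_mem.1 fixK_ok.2.2.2.2⟩
  mul_mem' := fun {a b} ⟨ha, ha'⟩ ⟨hb, hb'⟩ => ⟨Q.mul_mem ha hb, by
    rw [show (⟨a * b, Q.mul_mem ha hb⟩ : Q) = ⟨a, ha⟩ * ⟨b, hb⟩ from rfl, R.vv_mul, enc_add]
    have h := List.all_eq_true.1 (List.all_eq_true.1 fixK_ok.2.2.2.1 _ ha') _ hb'
    simp only [Bool.and_eq_true] at h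
    exact List.contains_iff_mem.1 h.1⟩
  inv_mem' := fun {a} ⟨ha, ha'⟩ => ⟨Q.inv_mem ha, by
    have e : R.vv ⟨a⁻¹, Q.inv_mem ha⟩ = R.vv ⟨a, ha⟩ := by
      have h := R.vv_mul ⟨a⁻¹, Q.inv_mem ha⟩ ⟨a, ha⟩
      rw [show (⟨a⁻¹, Q.inv_mem ha⟩ : Q) * ⟨a, ha⟩ = 1 from Subtype.ext (inv_mul_cancel a), R.vv_one] at h
      funext i
      exact (add_eq_zero_iff_eq_neg.1 (congrFun h.symm i)).trans (by generalize R.vv _ i = u; revert u; decide)
    rw [e]; exact ha'⟩

theorem X0_le : R.X0 ≤ Q := fun _ ⟨h, _⟩ => h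

theorem zC_mem_X0 : zC z ∈ R.X0 := ⟨R.zC_facts.1, by
  rw [(R.vv_zero_iff _).2 (Or.inr rfl)]
  exact List.contains_iff_mem.1 fixK_ok.2.2.2.2⟩

theorem X0_sq {a : Subgroup.centralizer ({z} : Set G)} (ha : a ∈ R.X0) : a * a = 1 := by
  obtain ⟨h, h'⟩ := ha
  refine Subtype.ext ((R.vv_parity ⟨a, h⟩).1 ?_)
  have hcl := List.all_eq_true.1 fixK_ok.2.2.1 _ h'
  simp only [Bool.and_eq_true, Bool.not_eq_true', beq_eq_false_iff_ne, decide_eq_true_eq] at hcl
  rw [clN_enc] at hcl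
  by_contra hne
  refine hcl.2 ?_
  rw [clW, if_neg (fun e => hne (by rw [e]; simp [FischerType.wt])), if_pos (by omega)]

theorem X0_comm {a b : Subgroup.centralizer ({z} : Set G)} (ha : a ∈ R.X0) (hb : b ∈ R.X0) : a * b = b * a := by
  have h := R.X0_sq (mul_mem ha hb)
  calc a * b = (a * b) * ((b * a) * (b * a)) := by rw [R.X0_sq (mul_mem hb ha), mul_one]
    _ = a * (b * b) * a * (b * a) := by simp only [mul_assoc]
    _ = b * a := by rw [R.X0_sq hb, mul_one, R.X0_sq ha, one_mul]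

theorem X0_ge [Finite G] : 128 ≤ Nat.card R.X0 := by
  classical
  have hch : ∀ w : {n // n ∈ fixK.toFinset}, ∃ a : Q, enc (R.vv a) = w.1 := fun w => by
    obtain ⟨a, ha⟩ := R.vv_surj (dec w.1)
    have h := List.all_eq_true.1 fixK_ok.2.2.1 _ (List.mem_toFinset.1 w.2)
    simp only [Bool.and_eq_true, decide_eq_true_eq] at h
    exact ⟨a, by rw [ha, enc_dec h.1]⟩
  choose a ha using hch
  let f : {n // n ∈ fixK.toFinset} × Bool → R.X0 := fun p =>
    ⟨(a p.1 : Subgroup.centralizer ({z} : Set G)) * cond p.2 (zC z) 1, mul_mem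
      ⟨(a p.1).2, by rw [show (⟨_, (a p.1).2⟩ : Q) = a p.1 from rfl, ha]; exact List.mem_toFinset.1 p.1.2⟩
      (by cases p.2; exacts [one_mem _, R.zC_mem_X0])⟩
  have hinj : Function.Injective f := by
    rintro ⟨w, b⟩ ⟨w', b'⟩ e
    have e' : (a w : Subgroup.centralizer ({z} : Set G)) * cond b (zC z) 1 =
        (a w' : Subgroup.centralizer ({z} : Set G)) * cond b' (zC z) 1 := congrArg Subtype.val e
    have hcond : ∀ c : Bool, ∃ h : (cond c (zC z) 1 : Subgroup.centralizer ({z} : Set G)) ∈ Q, R.vv ⟨_, h⟩ = 0 := by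
      intro c
      cases c
      · exact ⟨Q.one_mem, R.vv_one⟩
      · exact ⟨R.zC_facts.1, (R.vv_zero_iff _).2 (Or.inr rfl)⟩
    obtain ⟨hb, hb0⟩ := hcond b
    obtain ⟨hb', hb0'⟩ := hcond b'
    have hv := congrArg R.vv (show a w * ⟨_, hb⟩ = a w' * ⟨_, hb'⟩ from Subtype.ext e')
    rw [R.vv_mul, R.vv_mul, hb0, hb0', add_zero, add_zero] at hv
    have hw : w = w' := Subtype.ext (by rw [← ha w, ← ha w', hv])
    subst hw
    have hbb := mul_left_cancel e'
    cases b <;> cases b' <;> first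
      | rfl
      | exact absurd hbb.symm R.zC_facts.2.2
      | exact absurd hbb R.zC_facts.2.2
  refine le_of_eq_of_le ?_ (Nat.card_le_card_of_injective f hinj)
  rw [Nat.card_prod, Nat.card_eq_fintype_card, Fintype.card_coe, List.toFinset_card_of_nodup fixK_nodup,
    fixK_ok.2.1, Nat.card_eq_fintype_card, Fintype.card_bool]

include R in
/-- An abelian subgroup of `Q` containing `z` has order at most `2^7`. -/
theorem abelian_le [Finite G] (B : Subgroup (Subgroup.centralizer ({z} : Set G))) (hBQ : B ≤ Q) (hz : zC z ∈ B)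
    (hab : ∀ a ∈ B, ∀ b ∈ B, a * b = b * a) : Nat.card B ≤ 128 ∧
      (128 ≤ Nat.card B → ∀ q ∈ Q, (∀ b ∈ B, q * b = b * q) → q ∈ B) := by
  set Qg := Q.map (Subgroup.centralizer ({z} : Set G)).subtype
  set Bg := B.map (Subgroup.centralizer ({z} : Set G)).subtype
  have hle : Bg ≤ Qg := Subgroup.map_mono hBQ
  have h1 := LargeExtra.mul_centIn_le R.D.good Bg hle ⟨zC z, hz, rfl⟩
  have hcard : Nat.card Bg = Nat.card B :=
    (Nat.card_congr (B.equivMapOfInjective _ (Subgroup.centralizer ({z} : Set G)).subtype_injective).toEquiv).symm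
  rw [R.D.card_map, hcard] at h1
  have hsub : (Bg : Set G) ⊆ LargeExtra.centIn Qg Bg := by
    rintro _ ⟨b, hb, rfl⟩
    refine ⟨hle ⟨b, hb, rfl⟩, ?_⟩
    rintro _ ⟨c, hc, rfl⟩
    exact congrArg Subtype.val (hab b hb c hc)
  have h2 : Nat.card B ≤ (LargeExtra.centIn Qg Bg).ncard := by
    rw [← hcard, ← SetLike.coe_sort_coe, Nat.card_coe_set_eq]
    exact Set.ncard_le_ncard hsub (Set.toFinite _)
  refine ⟨by nlinarith, fun h128 q hq hqb => ?_⟩
  by_contra hqB
  have hlt : Nat.card B < (LargeExtra.centIn Qg Bg).ncard := by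
    rw [← hcard, ← SetLike.coe_sort_coe, Nat.card_coe_set_eq]
    refine Set.ncard_lt_ncard ⟨hsub, fun h => ?_⟩ (Set.toFinite _)
    obtain ⟨b, hb, e⟩ := h (show (q : G) ∈ LargeExtra.centIn Qg Bg from ⟨⟨q, hq, rfl⟩, by
      rintro _ ⟨c, hc, rfl⟩
      exact congrArg Subtype.val (hqb c hc)⟩)
    exact hqB (Subtype.ext e ▸ hb)
  nlinarith

theorem card_X0 [Finite G] : Nat.card R.X0 = 128 :=
  le_antisymm (R.abelian_le R.X0 R.X0_le R.zC_mem_X0 fun _ ha _ hb => R.X0_comm ha hb).1 R.X0_ge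

/-- The subgroup of order `2^11`. -/
theorem exists_A [Finite G] : ∃ A : Subgroup (Subgroup.centralizer ({z} : Set G)), Nat.card A = 2 ^ 11 ∧
    (∀ a ∈ A, a * a = 1) ∧ A ⊓ Q = R.X0 ∧ (∀ f : Au, f ∈ A.map R.img ↔ mat f ∈ kL) := by
  classical
  obtain ⟨K, hK, hKc, hKsq, hKlift⟩ := exists_kGroup
  obtain ⟨nh, h3, hn⟩ := R.exists_nh
  have hlin : ∀ f : Au, mat f ∈ kL → f * nuA = nuA * f ∧ f ∈ R.ρ.range := fun f hf => by
    obtain ⟨f', hf', -, hc, hR⟩ := exists_lin (kL_lin _ hf)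
    obtain rfl := mat_inj hf'
    exact ⟨hc, hR _ R.index⟩
  have himg : ∀ f ∈ R.ρ.range, ∃ c, R.img c = f := by
    rintro f ⟨h, rfl⟩
    obtain ⟨c, rfl⟩ := QuotientGroup.mk_surjective h
    exact ⟨c, rfl⟩
  have hfix : ∀ f : Au, f * nuA = nuA * f → f ∈ R.ρ.range → ∃ a, R.img a = f ∧ nh * a = a * nh := by
    intro f hf hr
    obtain ⟨c, rfl⟩ := himg f hr
    exact exists_fixed h3 hn hf
  have hsqc : ∀ a, nh * a = a * nh → mat (R.img a) ∈ kL → a * a = 1 ∨ a * a = zC z := fun a ha hm => by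
    refine fixed_Q h3 hn ((R.img_eq_one_iff _).1 ?_) (Commute.mul_right ha ha).eq
    rw [map_mul]
    exact hKsq _ ((hK _).2 hm)
  let C5 : Subgroup (Subgroup.centralizer ({z} : Set G)) :=
    K.comap R.img ⊓ Subgroup.centralizer {nh}
  have hC5 : ∀ a, a ∈ C5 ↔ mat (R.img a) ∈ kL ∧ nh * a = a * nh := fun a => by
    rw [Subgroup.mem_inf, Subgroup.mem_comap, hK, Subgroup.mem_centralizer_singleton_iff]
    exact and_congr_right fun _ => eq_comm
  have hC5Q : ∀ a ∈ C5, a ∈ Q → a = 1 ∨ a = zC z := fun a ha haQ => fixed_Q h3 hn haQ ((hC5 a).1 ha).2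
  have hall : ∀ a ∈ C5, a * a = 1 := by
    by_contra hno
    push Not at hno
    obtain ⟨a0, ha0, hne⟩ := hno
    have ha0z := (hsqc a0 ((hC5 a0).1 ha0).2 ((hC5 a0).1 ha0).1).resolve_left hne
    have ha01 : R.img a0 ≠ 1 := fun e => by
      rcases hC5Q a0 ha0 ((R.img_eq_one_iff _).1 e) with rfl | rfl
      · exact hne (mul_one _)
      · exact hne R.zC_facts.2.1
    obtain ⟨k, x, hk, hxc, hx, hR0⟩ := k_conj ((hC5 a0).1 ha0).1 ha01
    obtain ⟨k', hk', -, -⟩ := exists_k1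
    have hkf : k * nuA = nuA * k := by
      obtain ⟨k'', hk'', hc, -⟩ := exists_k1
      rwa [mat_inj (hk.trans hk''.symm)]
    obtain ⟨bk, hbk, hbkn⟩ := hfix k hkf (hR0 _ R.index).1
    obtain ⟨cx, hcx⟩ := himg x (hR0 _ R.index).2
    have hkk : k * k = 1 := by
      have h := congrArg (fun y => x⁻¹ * y * x) (hKsq _ ((hK _).2 ((hC5 a0).1 ha0).1))
      simp only [hx, mul_one, inv_mul_cancel] at h
      refine Eq.trans ?_ h
      group
    have hbk2 : bk * bk = 1 ∨ bk * bk = zC z := fixed_Q h3 hn ((R.img_eq_one_iff _).1 (by rw [map_mul, hbk, hkk]))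
      (Commute.mul_right hbkn hbkn).eq
    have hkz : bk * bk = zC z := by
      rw [← sq_conj h3 hn hbkn ((hC5 a0).1 ha0).2 (hcx ▸ hxc) (by rw [hcx, hbk]; exact hx) hbk2]
      exact ha0z
    have hsame : ∀ a ∈ C5, R.img a ≠ 1 → a * a = zC z := fun a ha ha1 => by
      obtain ⟨k2, x2, hk2, hxc2, hx2, hR2⟩ := k_conj ((hC5 a).1 ha).1 ha1
      obtain rfl := mat_inj (hk2.trans hk.symm)
      obtain ⟨c2, hc2⟩ := himg x2 (hR2 _ R.index).2
      rw [sq_conj h3 hn hbkn ((hC5 a).1 ha).2 (hc2 ▸ hxc2) (by rw [hc2, hbk]; exact hx2) hbk2, hkz]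
    have hanti : ∀ a ∈ C5, ∀ b ∈ C5, R.img a ≠ 1 → R.img b ≠ 1 → R.img a ≠ R.img b → b * a = a * b * zC z := by
      intro a ha b hb ha1 hb1 hab
      have h1 := hsame a ha ha1
      have h2 := hsame b hb hb1
      have hab1 : R.img (a * b) ≠ 1 := fun e => hab (by
        rw [map_mul] at e
        rw [eq_inv_of_mul_eq_one_left e]
        exact inv_eq_of_mul_eq_one_right (hKsq _ ((hK _).2 ((hC5 b).1 hb).1)))
      have h12 := hsame _ (mul_mem ha hb) hab1
      have e1 : a⁻¹ = a * zC z := inv_eq_of_mul_eq_one_right (by rw [← mul_assoc, h1, R.zC_facts.2.1])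
      have e2 : b⁻¹ = b * zC z := inv_eq_of_mul_eq_one_right (by rw [← mul_assoc, h2, R.zC_facts.2.1])
      calc b * a = a⁻¹ * (a * b * (a * b)) * b⁻¹ := by group
        _ = a * (zC z * zC z) * (b * zC z) := by rw [h12, e1, e2]; simp only [mul_assoc]
        _ = a * b * zC z := by rw [R.zC_facts.2.1, mul_one, mul_assoc]
    -- three independent elements
    have hpick : ∀ S : Finset Au, S.card < 16 → ∃ a ∈ C5, R.img a ∉ S := fun S hS => by
      obtain ⟨f, hf, hfS⟩ : ∃ f ∈ K, f ∉ S := by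
        by_contra hcon
        push Not at hcon
        have h1 : ((K : Set Au)).ncard ≤ (S : Set Au).ncard := Set.ncard_le_ncard (fun f hf => hcon f hf) S.finite_toSet
        rw [Set.ncard_coe_finset, ← Nat.card_coe_set_eq] at h1
        change Nat.card K ≤ _ at h1
        omega
      obtain ⟨a, ha, hafix⟩ := hfix f (hlin f ((hK f).1 hf)).1 (hlin f ((hK f).1 hf)).2
      exact ⟨a, (hC5 a).2 ⟨by rw [ha]; exact (hK f).1 hf, hafix⟩, ha ▸ hfS⟩
    obtain ⟨b, hb, hbne⟩ := hpick {1, R.img a0} ((Finset.card_le_two).trans_lt (by norm_num))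
    simp only [Finset.mem_insert, Finset.mem_singleton, not_or] at hbne
    obtain ⟨c, hc, hcne⟩ := hpick {1, R.img a0, R.img b, R.img a0 * R.img b}
      ((Finset.card_le_four).trans_lt (by norm_num))
    simp only [Finset.mem_insert, Finset.mem_singleton, not_or] at hcne
    obtain ⟨hc1, hca, hcb, hcab⟩ := hcne
    have hbc1 : R.img (b * c) ≠ 1 := fun e => hcb (by
      rw [map_mul] at e
      rw [eq_inv_of_mul_eq_one_right e]
      exact inv_eq_of_mul_eq_one_right (hKsq _ ((hK _).2 ((hC5 b).1 hb).1)))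
    have habc : R.img a0 ≠ R.img (b * c) := fun e => hcab (by
      rw [map_mul] at e
      have hcm : R.img a0 * R.img b = R.img b * R.img a0 := by
        have hh := hKsq _ (mul_mem ((hK _).2 ((hC5 a0).1 ha0).1) ((hK _).2 ((hC5 b).1 hb).1))
        have u := hKsq _ ((hK _).2 ((hC5 a0).1 ha0).1)
        have v := hKsq _ ((hK _).2 ((hC5 b).1 hb).1)
        have h := inv_eq_of_mul_eq_one_right hh
        rw [mul_inv_rev, inv_eq_of_mul_eq_one_right u, inv_eq_of_mul_eq_one_right v] at h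
        exact h.symm
      rw [hcm, e, ← mul_assoc, hKsq _ ((hK _).2 ((hC5 b).1 hb).1), one_mul])
    have e1 := hanti a0 ha0 b hb ha01 hbne.1 (Ne.symm hbne.2)
    have e2 := hanti a0 ha0 c hc ha01 hc1 (Ne.symm hca)
    have e3 := hanti a0 ha0 (b * c) (mul_mem hb hc) ha01 hbc1 habc
    refine R.zC_facts.2.2 ?_
    have e4 : b * c * a0 = a0 * (b * c) := by
      calc b * c * a0 = b * (c * a0) := mul_assoc _ _ _
        _ = b * a0 * c * zC z := by rw [e2]; group
        _ = a0 * b * (zC z * c) * zC z := by rw [e1]; group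
        _ = a0 * b * c * (zC z * zC z) := by rw [← zC_comm c]; group
        _ = a0 * (b * c) := by rw [R.zC_facts.2.1, mul_one, mul_assoc]
    rw [e4] at e3
    exact left_eq_mul.1 e3
  have hfixK : ∀ a ∈ C5, ∀ x ∈ R.X0, a * x = x * a := by
    intro a ha x hx
    obtain ⟨hxQ, hx'⟩ := hx
    have hcases : ∀ y (hy : y ∈ Q), enc (R.vv ⟨y, hy⟩) ∈ fixK → a * y * a⁻¹ = y ∨ a * y * a⁻¹ = y * zC z := by
      intro y hy hy'
      have hw := List.all_eq_true.1 (List.all_eq_true.1 fixK_ok.1 _ ((hC5 a).1 ha).1) _ hy'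
      rw [beq_iff_eq, ap_mat _ (enc_lt _), dec_enc] at hw
      refine R.eq_of_vv (a := ⟨y, hy⟩) (b := ⟨_, (inferInstance : Q.Normal).conj_mem y hy a⟩) ?_
      rw [← R.vv_img ⟨y, hy⟩ ⟨_, (inferInstance : Q.Normal).conj_mem y hy a⟩ rfl]
      exact (enc_inj hw).symm
    rcases hcases x hxQ hx' with e | e
    · exact mul_inv_eq_iff_eq_mul.1 e
    exfalso
    have hna := ((hC5 a).1 ha).2
    set y := nh * x * nh⁻¹ with hy
    set w := nh * y * nh⁻¹ with hw
    have hyQ : y ∈ Q := (inferInstance : Q.Normal).conj_mem x hxQ nh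
    have hwQ : w ∈ Q := (inferInstance : Q.Normal).conj_mem y hyQ nh
    have hconj : ∀ u : Subgroup.centralizer ({z} : Set G),
        a * (nh * u * nh⁻¹) * a⁻¹ = nh * (a * u * a⁻¹) * nh⁻¹ := fun u => by
      calc a * (nh * u * nh⁻¹) * a⁻¹ = (a * nh) * u * (a * nh)⁻¹ := by group
        _ = (nh * a) * u * (nh * a)⁻¹ := by rw [hna]
        _ = _ := by group
    have hzf : nh * zC z * nh⁻¹ = zC z := mul_inv_eq_iff_eq_mul.2 (zC_comm nh)
    have ey : a * y * a⁻¹ = y * zC z := by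
      rw [hy, hconj, e]
      calc nh * (x * zC z) * nh⁻¹ = nh * x * nh⁻¹ * (nh * zC z * nh⁻¹) := by group
        _ = _ := by rw [hzf]
    have ew : a * w * a⁻¹ = w * zC z := by
      rw [hw, hconj, ey]
      calc nh * (y * zC z) * nh⁻¹ = nh * y * nh⁻¹ * (nh * zC z * nh⁻¹) := by group
        _ = _ := by rw [hzf]
    have v1 := vv_nh h3 hn ⟨x, hxQ⟩ ⟨y, hyQ⟩ rfl
    have v2 := vv_nh h3 hn ⟨y, hyQ⟩ ⟨w, hwQ⟩ rfl
    have hp : x * y * w = 1 ∨ x * y * w = zC z := by
      refine R.eq_of_vv_zero (Q.mul_mem (Q.mul_mem hxQ hyQ) hwQ) ?_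
      rw [show (⟨x * y * w, _⟩ : Q) = ⟨x, hxQ⟩ * ⟨y, hyQ⟩ * ⟨w, hwQ⟩ from rfl, R.vv_mul, R.vv_mul, v2, v1]
      funext i
      exact (nu_solve2 _).2.2.1
    have hfix' : a * (x * y * w) * a⁻¹ = x * y * w := by
      rcases hp with e' | e' <;> rw [e']
      · group
      · rw [zC_comm a, mul_inv_cancel_right]
    refine R.zC_facts.2.2 (left_eq_mul.1 (hfix'.symm.trans ?_))
    calc a * (x * y * w) * a⁻¹ = (a * x * a⁻¹) * (a * y * a⁻¹) * (a * w * a⁻¹) := by group
      _ = x * (zC z * y) * zC z * (w * zC z) := by rw [e, ey, ew]; group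
      _ = x * y * (zC z * zC z) * (w * zC z) := by rw [← zC_comm y]; group
      _ = x * y * w * zC z := by rw [R.zC_facts.2.1]; group
  let A : Subgroup (Subgroup.centralizer ({z} : Set G)) :=
    { carrier := {g | ∃ x ∈ R.X0, ∃ a ∈ C5, g = x * a}
      one_mem' := ⟨1, one_mem _, 1, one_mem _, (mul_one 1).symm⟩
      mul_mem' := by
        rintro g g' ⟨x, hx, a, ha, rfl⟩ ⟨x', hx', a', ha', rfl⟩
        refine ⟨x * x', mul_mem hx hx', a * a', mul_mem ha ha', ?_⟩
        rw [mul_assoc x, ← mul_assoc a, hfixK a ha x' hx']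
        simp only [mul_assoc]
      inv_mem' := by
        rintro g ⟨x, hx, a, ha, rfl⟩
        refine ⟨x⁻¹, inv_mem hx, a⁻¹, inv_mem ha, ?_⟩
        rw [mul_inv_rev, hfixK _ (inv_mem ha) _ (inv_mem hx)] }
  have hA_Q : A ⊓ Q = R.X0 := by
    refine le_antisymm ?_ fun x hx => ⟨⟨x, hx, 1, one_mem _, (mul_one x).symm⟩, R.X0_le hx⟩
    rintro g ⟨⟨x, hx, a, ha, rfl⟩, hgQ⟩
    have haQ : a ∈ Q := by simpa using Q.mul_mem (Q.inv_mem (R.X0_le hx)) hgQ
    refine mul_mem hx ?_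
    rcases hC5Q a ha haQ with rfl | rfl
    exacts [one_mem _, R.zC_mem_X0]
  have hmap : ∀ f : Au, f ∈ A.map R.img ↔ mat f ∈ kL := by
    intro f
    constructor
    · rintro ⟨g, ⟨x, hx, a, ha, rfl⟩, rfl⟩
      rw [map_mul, (R.img_eq_one_iff x).2 (R.X0_le hx), one_mul]
      exact ((hC5 a).1 ha).1
    · intro hf
      obtain ⟨a, ha, hafix⟩ := hfix f (hlin f hf).1 (hlin f hf).2
      exact ⟨a, ⟨1, one_mem _, a, (hC5 a).2 ⟨ha ▸ hf, hafix⟩, (one_mul a).symm⟩, ha⟩
  refine ⟨A, ?_, ?_, hA_Q, hmap⟩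
  · rw [← R.card_split A, hA_Q, R.card_X0, show A.map R.img = K from SetLike.ext fun f => (hmap f).trans (hK f).symm,
      hKc]
    norm_num
  · rintro g ⟨x, hx, a, ha, rfl⟩
    calc x * a * (x * a) = x * (a * x) * a := by simp only [mul_assoc]
      _ = (x * x) * (a * a) := by rw [hfixK a ha x hx]; simp only [mul_assoc]
      _ = 1 := by rw [R.X0_sq hx, hall a ha, mul_one]

end Rep

end Cfsg.Agent.Lib.Fi24Type47
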