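import Mathlib
import Cfsg.Agent.Lib.Fi24Type47.Exist

/-!
The elementary abelian subgroup of order `2^11` is the only one of that order or more in a Sylow 2-subgroup.
-/

set_option autoImplicit false

namespace Cfsg.Agent.Lib.Fi24Type47

open Cfsg.Agent.Lib.FischerType (K4 W6 wt FData vcl inG)

variable {G : Type*} [Group G] {z : G} {Q : Subgroup (Subgroup.centralizer ({z} : Set G))} [Q.Normal]
  {P : Subgroup (Subgroup.centralizer ({z} : Set G) ⧸ Q)} (R : Rep Q P)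

namespace Rep

/-- The linear elements of the listed Sylow subgroup in the image are the listed 128. -/
theorem mem_linL [Finite G] {f : Au} (hf : mat f ∈ sylL) (hr : f ∈ R.ρ.range) (hc : f * nuA = nuA * f) :
    mat f ∈ linL := by
  classical
  obtain ⟨P9, hP9, hP9c, -⟩ := exists_syl
  set U : Subgroup Au := P9 ⊓ R.ρ.range ⊓ Subgroup.centralizer {nuA} with hU
  have h1 : Nat.card U ∣ 512 := hP9c ▸ Subgroup.card_dvd_of_le (inf_le_left.trans inf_le_left)
  have h2 : Nat.card U ∣ 9797760 := R.card_cent U (inf_le_left.trans inf_le_right) fun g hg =>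
    Subgroup.mem_centralizer_singleton_iff.1 hg.2
  have h3 : Nat.card U ∣ 128 := by
    have := Nat.dvd_gcd h1 h2
    rwa [show Nat.gcd 512 9797760 = 128 by decide +kernel] at this
  have hle : Nat.card U ≤ 128 := Nat.le_of_dvd (by norm_num) h3
  obtain ⟨-, -, hlen, hnd, -, -, -, -, -⟩ := lin_shape
  have hfU : f ∈ U := ⟨⟨(hP9 f).2 hf, hr⟩, Subgroup.mem_centralizer_singleton_iff.2 hc⟩
  by_contra hno
  have hsub : ∀ m ∈ linL.toFinset, ∃ g ∈ U, mat g = m := fun m hm => by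
    obtain ⟨g, hg, hgs, hgc, hgR⟩ := exists_lin (List.mem_toFinset.1 hm)
    exact ⟨g, ⟨⟨(hP9 g).2 (hg ▸ hgs), hgR _ R.index⟩, Subgroup.mem_centralizer_singleton_iff.2 hgc⟩, hg⟩
  choose g hgU hg using hsub
  let emb : Option {m // m ∈ linL.toFinset} → U := fun o =>
    o.elim ⟨f, hfU⟩ fun m => ⟨g m.1 m.2, hgU m.1 m.2⟩
  have hinj : Function.Injective emb := by
    intro a b e
    have e' := congrArg (fun u : U => mat (u : Au)) e
    rcases a with - | a <;> rcases b with - | b <;> simp only [emb, Option.elim, hg] at e'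
    · rfl
    · exact absurd (e'.symm ▸ List.mem_toFinset.1 b.2) hno
    · exact absurd (e' ▸ List.mem_toFinset.1 a.2) hno
    · rw [Subtype.ext e']
  have := Nat.card_le_card_of_injective emb hinj
  rw [Nat.card_eq_fintype_card, Fintype.card_option, Fintype.card_coe,
    List.toFinset_card_of_nodup (distinctL_nodup hnd), hlen] at this
  omega

/-- Every elementary abelian subgroup of order at least `2^11` over the Sylow image is the constructed one. -/
theorem unique_A [Finite G] {A : Subgroup (Subgroup.centralizer ({z} : Set G))} (hAc : Nat.card A = 2 ^ 11)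
    (hAsq : ∀ a ∈ A, a * a = 1) (hAQ : A ⊓ Q = R.X0) (hAm : ∀ f : Au, f ∈ A.map R.img ↔ mat f ∈ kL)
    (B : Subgroup (Subgroup.centralizer ({z} : Set G))) (hB : ∀ b ∈ B, mat (R.img b) ∈ sylL)
    (hsq : ∀ b ∈ B, b * b = 1) (hz : zC z ∈ B) (hc : 2 ^ 11 ≤ Nat.card B) : B = A := by
  classical
  have comm_of : ∀ (S : Subgroup (Subgroup.centralizer ({z} : Set G))), (∀ a ∈ S, a * a = 1) →
      ∀ a ∈ S, ∀ b ∈ S, a * b = b * a := fun S hS a ha b hb => by
    calc a * b = (a * b) * ((b * a) * (b * a)) := by rw [hS _ (mul_mem hb ha), mul_one]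
      _ = a * (b * b) * a * (b * a) := by simp only [mul_assoc]
      _ = b * a := by rw [hS b hb, mul_one, hS a ha, one_mul]
  haveI : Finite Au := inferInstance
  set KB : Subgroup Au := B.map R.img with hKB
  have hsplit := R.card_split B
  have hle := R.abelian_le (B ⊓ Q) inf_le_right ⟨hz, R.zC_facts.1⟩
    fun a ha b hb => comm_of B hsq a ha.1 b hb.1
  set Kf : Finset Au := (Set.toFinite (KB : Set Au)).toFinset with hKf
  have hKmem : ∀ f, f ∈ Kf ↔ f ∈ KB := fun f => Set.Finite.mem_toFinset _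
  have hKcard : Kf.card = Nat.card KB := by
    rw [hKf, ← Set.ncard_eq_toFinset_card]; exact (Nat.card_coe_set_eq (KB : Set Au)).symm
  have hK16 : 16 ≤ Kf.card := by rw [hKcard]; nlinarith [hle.1]
  set X : Finset ℕ := (Set.toFinite ((fun b : ↥(B ⊓ Q) => enc (R.vv ⟨b.1, b.2.2⟩)) '' Set.univ)).toFinset with hX
  have hXmem : ∀ b : ↥(B ⊓ Q), enc (R.vv ⟨b.1, b.2.2⟩) ∈ X := fun b =>
    (Set.Finite.mem_toFinset _).2 ⟨b, trivial, rfl⟩
  have hXiff : ∀ w ∈ X, ∃ b : ↥(B ⊓ Q), enc (R.vv ⟨b.1, b.2.2⟩) = w := fun w hw => by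
    obtain ⟨b, -, e⟩ := (Set.Finite.mem_toFinset _).1 hw
    exact ⟨b, e⟩
  have hXcard : Nat.card ↥(B ⊓ Q) ≤ 2 * X.card := by
    choose r hr using fun w : {w // w ∈ X} => hXiff w.1 w.2
    let f : ↥(B ⊓ Q) → {w // w ∈ X} × Bool := fun b =>
      (⟨_, hXmem b⟩, decide (b = r ⟨_, hXmem b⟩))
    have hinj : Function.Injective f := by
      intro a b e
      have e1 : enc (R.vv ⟨a.1, a.2.2⟩) = enc (R.vv ⟨b.1, b.2.2⟩) := congrArg (fun p => p.1.1) e
      have e2 : decide (a = r ⟨_, hXmem a⟩) = decide (b = r ⟨_, hXmem b⟩) := congrArg Prod.snd e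
      have e3 : r ⟨_, hXmem a⟩ = r ⟨_, hXmem b⟩ := congrArg r (Subtype.ext e1)
      set c := r ⟨_, hXmem a⟩ with hcdef
      rw [← e3, decide_eq_decide] at e2
      by_cases ha : a = c
      · rw [ha, e2.1 ha]
      have hb : ¬ b = c := fun h => ha (e2.2 h)
      have hca : R.vv ⟨c.1, c.2.2⟩ = R.vv ⟨a.1, a.2.2⟩ := enc_inj (hr ⟨_, hXmem a⟩)
      have hcb : R.vv ⟨c.1, c.2.2⟩ = R.vv ⟨b.1, b.2.2⟩ := hca.trans (enc_inj e1)
      rcases R.eq_of_vv hca with h | h
      · exact absurd (Subtype.ext h : a = c) ha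
      rcases R.eq_of_vv hcb with h' | h'
      · exact absurd (Subtype.ext h' : b = c) hb
      exact Subtype.ext (h.trans h'.symm)
    have := Nat.card_le_card_of_injective f hinj
    rw [Nat.card_prod, Nat.card_eq_fintype_card (α := {w // w ∈ X}), Fintype.card_coe,
      Nat.card_eq_fintype_card (α := Bool), Fintype.card_bool] at this
    omega
  have hXlt : ∀ w ∈ X, w < 4096 := fun w hw => by
    obtain ⟨b, rfl⟩ := hXiff w hw; exact enc_lt _
  have hfix : ∀ f ∈ Kf, ∀ w ∈ X, ap (mat f) w = w := by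
    intro f hf w hw
    obtain ⟨c, hc', rfl⟩ := (hKmem f).1 hf
    obtain ⟨b, rfl⟩ := hXiff w hw
    rw [ap_mat _ (enc_lt _), dec_enc, R.vv_img ⟨b.1, b.2.2⟩ ⟨b.1, b.2.2⟩]
    show c * b.1 * c⁻¹ = b.1
    exact mul_inv_eq_iff_eq_mul.2 (comm_of B hsq c hc' b.1 b.2.1)
  have hrange : ∀ f ∈ Kf, f ∈ R.ρ.range := fun f hf => by
    obtain ⟨c, -, rfl⟩ := (hKmem f).1 hf; exact ⟨_, rfl⟩
  have hKsyl : ∀ f ∈ Kf, mat f ∈ sylL := fun f hf => by
    obtain ⟨c, hc', rfl⟩ := (hKmem f).1 hf; exact hB c hc'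
  have hKsq : ∀ f ∈ Kf, f * f = 1 := fun f hf => by
    obtain ⟨c, hc', rfl⟩ := (hKmem f).1 hf; rw [← map_mul, hsq c hc', map_one]
  have hKmul : ∀ f ∈ Kf, ∀ g ∈ Kf, f * g ∈ Kf := fun f hf g hg =>
    (hKmem _).2 (mul_mem ((hKmem f).1 hf) ((hKmem g).1 hg))
  have hKone : (1 : Au) ∈ Kf := (hKmem 1).2 (one_mem _)
  have hKcomm : ∀ f ∈ Kf, ∀ g ∈ Kf, f * g = g * f := fun f hf g hg => by
    obtain ⟨c, hc', rfl⟩ := (hKmem f).1 hf
    obtain ⟨d, hd', rfl⟩ := (hKmem g).1 hg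
    rw [← map_mul, ← map_mul, comm_of B hsq c hc' d hd']
  set K1 := Kf.filter fun f => f * nuA = nuA * f with hK1
  have hK1mem : ∀ f, f ∈ K1 ↔ f ∈ Kf ∧ f * nuA = nuA * f := fun f => Finset.mem_filter
  have h1one : (1 : Au) ∈ K1 := (hK1mem 1).2 ⟨hKone, by rw [one_mul, mul_one]⟩
  have h1mul : ∀ f ∈ K1, ∀ g ∈ K1, f * g ∈ K1 := fun f hf g hg => by
    rw [hK1mem] at hf hg ⊢
    exact ⟨hKmul f hf.1 g hg.1, by rw [mul_assoc, hg.2, ← mul_assoc, hf.2, mul_assoc]⟩
  have h1lin : ∀ f ∈ K1, mat f ∈ linL := fun f hf =>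
    R.mem_linL (hKsyl f ((hK1mem f).1 hf).1) (hrange f ((hK1mem f).1 hf).1) ((hK1mem f).1 hf).2
  have h1sq : ∀ f ∈ K1, f * f = 1 := fun f hf => hKsq f ((hK1mem f).1 hf).1
  have h1fix : ∀ f ∈ K1, ∀ w ∈ X, ap (mat f) w = w := fun f hf => hfix f ((hK1mem f).1 hf).1
  have hcase : Kf = K1 := by
    by_contra hne
    obtain ⟨o, ho, hon⟩ : ∃ o ∈ Kf, o ∉ K1 := by
      by_contra hcon
      push Not at hcon
      exact hne (Finset.Subset.antisymm hcon (Finset.filter_subset _ _))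
    have honc : ¬ o * nuA = nuA * o := fun e => hon ((hK1mem o).2 ⟨ho, e⟩)
    have hcov : Kf ⊆ K1 ∪ K1.image (o * ·) := by
      intro f hf
      by_cases hfc : f * nuA = nuA * f
      · exact Finset.mem_union_left _ ((hK1mem f).2 ⟨hf, hfc⟩)
      · refine Finset.mem_union_right _ (Finset.mem_image.2 ⟨o * f,
          (hK1mem _).2 ⟨hKmul o ho f hf, R.semi o (hrange o ho) f (hrange f hf) honc hfc⟩, ?_⟩)
        rw [← mul_assoc, hKsq o ho, one_mul]
    have hc2 := (Finset.card_le_card hcov).trans ((Finset.card_union_le _ _).trans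
      (Nat.add_le_add_left Finset.card_image_le _))
    have hsem : mat o ∈ semInv := by
      refine List.mem_filter.2 ⟨hKsyl o ho, ?_⟩
      rw [Bool.and_eq_true, beq_iff_eq, Bool.not_eq_true', beq_eq_false_iff_ne, ← mat_mul, hKsq o ho, mat_one]
      exact ⟨rfl, fun e => honc ((commute_nu_iff o).2 e)⟩
    obtain ⟨hs1, hs2⟩ := concl_linear h1one h1mul h1sq h1lin hXlt h1fix hsem
      (fun f hf => hKcomm f ((hK1mem f).1 hf).1 o ho) (hfix o ho) (by omega)
    have hK32 : Nat.card KB ≤ 32 := by rw [← hKcard]; omega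
    have hle16 : Nat.card ↥(B ⊓ Q) ≤ 16 := by omega
    have := Nat.mul_le_mul hle16 hK32
    rw [hKB, R.card_split B] at this
    norm_num at hc
    omega
  obtain ⟨hs1, hs2, -⟩ := concl_of_linear (sm₀ := []) h1one h1mul h1sq h1lin hXlt h1fix
    (by simp) (by simp) (by rw [← hcase]; omega)
  rw [← hcase] at hs1 hs2
  have hK16' : Kf.card = 16 := le_antisymm hs1 hK16
  have hKk : ∀ f ∈ Kf, mat f ∈ kL := by
    rcases hs2 hK16 with h | h
    · exfalso
      have hle16 : Nat.card ↥(B ⊓ Q) ≤ 16 := by omega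
      have := Nat.mul_le_mul hle16 (show Nat.card KB ≤ 16 by rw [← hKcard]; omega)
      rw [hKB, R.card_split B] at this
      norm_num at hc
      omega
    · exact h
  obtain ⟨K16, hK16g, hK16c, -, -⟩ := exists_kGroup
  have hKBeq : KB = K16 := Subgroup.eq_of_le_of_card_ge (fun f hf => (hK16g f).2 (hKk f ((hKmem f).2 hf)))
    (by rw [hK16c, ← hKcard, hK16'])
  have hBQ128 : 128 ≤ Nat.card ↥(B ⊓ Q) := by
    have h := hsplit
    rw [← hKB, hKBeq, hK16c] at h
    norm_num at hc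
    omega
  have hBQle : B ⊓ Q ≤ R.X0 := by
    intro b hb
    refine ⟨hb.2, ?_⟩
    have hw := enc_lt (R.vv ⟨b, hb.2⟩)
    have hcomp := List.all_eq_true.1 (List.all_eq_true.1 fixK_complete (enc (R.vv ⟨b, hb.2⟩) / 64)
      (List.mem_range.2 (by omega))) (enc (R.vv ⟨b, hb.2⟩) % 64) (List.mem_range.2 (by omega))
    rw [Nat.div_add_mod, Bool.or_eq_true, Bool.not_eq_true'] at hcomp
    refine List.contains_iff_mem.1 (hcomp.resolve_left fun hfalse => ?_)
    rw [List.all_eq_false] at hfalse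
    obtain ⟨m, hm, hne⟩ := hfalse
    obtain ⟨K', hK', -, -, hlift⟩ := exists_kGroup
    obtain ⟨f, rfl⟩ := hlift m hm
    refine hne (beq_iff_eq.2 (hfix f ((hKmem f).2 ?_) _ (hXmem ⟨b, hb⟩)))
    rw [hKBeq, hK16g]; exact hm
  have hBQeq : B ⊓ Q = R.X0 := Subgroup.eq_of_le_of_card_ge hBQle (by rw [R.card_X0]; exact hBQ128)
  have hBA : B ≤ A := by
    intro b hb
    have hbm : R.img b ∈ A.map R.img := (hAm _).2 (hKk _ ((hKmem _).2 ⟨b, hb, rfl⟩))
    obtain ⟨a, ha, hab⟩ := hbm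
    have hq : a⁻¹ * b ∈ Q := (R.img_eq_iff _ _).1 hab
    have hX0A : R.X0 ≤ A := hAQ ▸ inf_le_left
    have hX0B : R.X0 ≤ B := hBQeq ▸ inf_le_left
    have hq0 : a⁻¹ * b ∈ R.X0 := by
      refine (R.abelian_le R.X0 R.X0_le R.zC_mem_X0 fun _ h _ h' => R.X0_comm h h').2 R.X0_ge _ hq fun x hx => ?_
      exact ((Commute.inv_left (comm_of A hAsq a ha x (hX0A hx) : Commute a x)).mul_left
        (comm_of B hsq b hb x (hX0B hx) : Commute b x)).eq
    have := mul_mem ha (hX0A hq0)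
    rwa [mul_inv_cancel_left] at this
  exact Subgroup.eq_of_le_of_card_ge hBA (hAc ▸ hc)

end Rep

end Cfsg.Agent.Lib.Fi24Type47
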