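import Mathlib
import Cfsg.Agent.Lib.Fi24Type47.Unique

/-!
The Sylow 2-subgroup over the listed one, and Sylow 2-subgroups of the whole group.
-/

set_option autoImplicit false

namespace Cfsg.Agent.Lib.Fi24Type47

open Cfsg.Agent.Lib.FischerType (K4 W6 wt FData vcl inG)

variable {G : Type*} [Group G] [Finite G] {z : G} {Q : Subgroup (Subgroup.centralizer ({z} : Set G))} [Q.Normal]

/-- All data at a Sylow 2-subgroup of the centraliser. -/
structure Ctx (z : G) (Q : Subgroup (Subgroup.centralizer ({z} : Set G))) [Q.Normal] where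
  hF : Cfsg.IsOfLargeFischerTypeAt z Q
  S : Sylow 2 (Subgroup.centralizer ({z} : Set G))
  R : Rep Q ((S : Subgroup (Subgroup.centralizer ({z} : Set G))).map (QuotientGroup.mk' Q))
  A : Subgroup (Subgroup.centralizer ({z} : Set G))
  card_A : Nat.card A = 2 ^ 11
  sq_A : ∀ a ∈ A, a * a = 1
  A_Q : A ⊓ Q = R.X0
  A_img : ∀ f : Au, f ∈ A.map R.img ↔ mat f ∈ kL

theorem exists_ctx (hF : Cfsg.IsOfLargeFischerTypeAt z Q) : Nonempty (Ctx z Q) := by
  haveI : Fact (Nat.Prime 2) := ⟨Nat.prime_two⟩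
  obtain ⟨S⟩ : Nonempty (Sylow 2 (Subgroup.centralizer ({z} : Set G))) := inferInstance
  obtain ⟨R⟩ := exists_rep Q hF ((S : Subgroup (Subgroup.centralizer ({z} : Set G))).map (QuotientGroup.mk' Q))
    (S.isPGroup'.map _)
  obtain ⟨A, hAc, hAsq, hAQ, hAm⟩ := R.exists_A
  exact ⟨⟨hF, S, R, A, hAc, hAsq, hAQ, hAm⟩⟩

namespace Ctx

variable (X : Ctx z Q)

theorem comm_A {a b : Subgroup.centralizer ({z} : Set G)} (ha : a ∈ X.A) (hb : b ∈ X.A) : a * b = b * a := by
  calc a * b = (a * b) * ((b * a) * (b * a)) := by rw [X.sq_A _ (mul_mem hb ha), mul_one]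
    _ = a * (b * b) * a * (b * a) := by simp only [mul_assoc]
    _ = b * a := by rw [X.sq_A b hb, mul_one, X.sq_A a ha, one_mul]

theorem mem_S_iff (t : Subgroup.centralizer ({z} : Set G)) :
    t ∈ (X.S : Subgroup (Subgroup.centralizer ({z} : Set G))) ↔ mat (X.R.img t) ∈ sylL := by
  haveI : Fact (Nat.Prime 2) := ⟨Nat.prime_two⟩
  obtain ⟨P9, hP9, hP9c, -⟩ := exists_syl
  have hker : IsPGroup 2 X.R.img.ker := by
    rw [show X.R.img.ker = Q from SetLike.ext fun c => MonoidHom.mem_ker.trans (X.R.img_eq_one_iff c)]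
    exact IsPGroup.of_card X.R.D.card
  have hT : (X.S : Subgroup (Subgroup.centralizer ({z} : Set G))) = P9.comap X.R.img := by
    refine (X.S.is_maximal' (IsPGroup.comap_of_ker_isPGroup (IsPGroup.of_card (p := 2) (n := 9) hP9c) X.R.img hker)
      fun t ht => ?_).symm
    exact (hP9 _).2 (X.R.le_syl _ ⟨t, ht, rfl⟩)
  exact (SetLike.ext_iff.1 hT t).trans (Subgroup.mem_comap.trans (hP9 _))

theorem Q_le_S : Q ≤ (X.S : Subgroup (Subgroup.centralizer ({z} : Set G))) := fun q hq => by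
  rw [X.mem_S_iff, (X.R.img_eq_one_iff q).2 hq, mat_getE_zero, getE,
    List.getD_eq_getElem _ _ (by rw [syl_first.2]; norm_num)]
  exact List.getElem_mem _

theorem A_le_S : X.A ≤ (X.S : Subgroup (Subgroup.centralizer ({z} : Set G))) := fun a ha => by
  rw [X.mem_S_iff]
  exact List.contains_iff_mem.1 (List.all_eq_true.1 syl_contains _ (kL_lin _ ((X.A_img _).1 ⟨a, ha, rfl⟩)))

/-- The only elementary abelian subgroup of order at least `2^11`. -/
theorem unique (B : Subgroup (Subgroup.centralizer ({z} : Set G)))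
    (hBS : B ≤ (X.S : Subgroup (Subgroup.centralizer ({z} : Set G)))) (hsq : ∀ b ∈ B, b * b = 1)
    (hc : 2 ^ 11 ≤ Nat.card B) : B = X.A := by
  set zz := Rep.zC z with hzz
  have hz2 : zz * zz = 1 := X.R.zC_facts.2.1
  let B' : Subgroup (Subgroup.centralizer ({z} : Set G)) :=
    { carrier := {g | g ∈ B ∨ g * zz ∈ B}
      one_mem' := Or.inl (one_mem _)
      mul_mem' := by
        rintro g g' (hg | hg) (hg' | hg')
        · exact Or.inl (mul_mem hg hg')
        · exact Or.inr (by rw [mul_assoc]; exact mul_mem hg hg')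
        · refine Or.inr ?_
          rw [mul_assoc, Rep.zC_comm g', ← mul_assoc]
          exact mul_mem hg hg'
        · refine Or.inl ?_
          have h := mul_mem hg hg'
          rwa [show g * zz * (g' * zz) = g * (zz * g') * zz by group, ← Rep.zC_comm g', ← mul_assoc,
            mul_assoc (g * g'), hz2, mul_one] at h
      inv_mem' := by
        rintro g (hg | hg)
        · exact Or.inl (inv_mem hg)
        · refine Or.inr ?_
          have h := inv_mem hg
          rwa [mul_inv_rev, inv_eq_of_mul_eq_one_right hz2, ← Rep.zC_comm] at h }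
  have hle : B ≤ B' := fun b hb => Or.inl hb
  have hB'S : ∀ b ∈ B', b ∈ (X.S : Subgroup (Subgroup.centralizer ({z} : Set G))) := by
    rintro b (hb | hb)
    · exact hBS hb
    · have h := mul_mem (hBS hb) (X.Q_le_S X.R.zC_facts.1)
      rwa [mul_assoc, hz2, mul_one] at h
  have hB'sq : ∀ b ∈ B', b * b = 1 := by
    rintro b (hb | hb)
    · exact hsq b hb
    · have h := hsq _ hb
      rwa [mul_assoc, ← mul_assoc zz b, ← Rep.zC_comm b, mul_assoc b zz, hz2, mul_one] at h
  have hB'A : B' = X.A := X.R.unique_A X.card_A X.sq_A X.A_Q X.A_img B'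
    (fun b hb => (X.mem_S_iff b).1 (hB'S b hb)) hB'sq (Or.inr (by rw [hz2]; exact one_mem B))
    (hc.trans (Subgroup.card_le_of_le hle))
  exact Subgroup.eq_of_le_of_card_ge (hB'A ▸ hle) (X.card_A ▸ hc)

/-- The subgroup in the whole group. -/
def AG : Subgroup G := X.A.map (Subgroup.centralizer ({z} : Set G)).subtype

theorem card_AG : Nat.card X.AG = 2 ^ 11 := by
  rw [← X.card_A]
  exact (Nat.card_congr (X.A.equivMapOfInjective _
    (Subgroup.centralizer ({z} : Set G)).subtype_injective).toEquiv).symm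

theorem sq_AG {a : G} (ha : a ∈ X.AG) : a * a = 1 := by
  obtain ⟨b, hb, rfl⟩ := ha
  rw [← map_mul, X.sq_A b hb, map_one]

theorem comm_AG {a b : G} (ha : a ∈ X.AG) (hb : b ∈ X.AG) : a * b = b * a := by
  obtain ⟨c, hc, rfl⟩ := ha
  obtain ⟨d, hd, rfl⟩ := hb
  rw [← map_mul, ← map_mul, X.comm_A hc hd]

/-- The Sylow 2-subgroup is one of the whole group. -/
theorem sylow_top : ∃ P0 : Sylow 2 G,
    (P0 : Subgroup G) = (X.S : Subgroup (Subgroup.centralizer ({z} : Set G))).map
      (Subgroup.centralizer ({z} : Set G)).subtype := by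
  haveI : Fact (Nat.Prime 2) := ⟨Nat.prime_two⟩
  obtain ⟨P0, hP0⟩ := (X.S.isPGroup'.map (Subgroup.centralizer ({z} : Set G)).subtype).exists_le_sylow
  refine ⟨P0, le_antisymm ?_ hP0⟩
  have hQP : Q.map (Subgroup.centralizer ({z} : Set G)).subtype ≤ P0 := (Subgroup.map_mono X.Q_le_S).trans hP0
  have hzP : z ∈ (P0 : Subgroup G) := hQP X.R.D.good.x_mem
  haveI : Nontrivial (P0 : Subgroup G) :=
    ⟨⟨⟨z, hzP⟩, 1, fun e => X.R.D.good.x_ne (congrArg Subtype.val e)⟩⟩
  haveI := P0.isPGroup'.center_nontrivial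
  obtain ⟨⟨y, hy⟩, hy1⟩ := exists_ne (1 : Subgroup.center (P0 : Subgroup G))
  have hcomm : ∀ p ∈ (P0 : Subgroup G), (y : G) * p = p * y := fun p hp =>
    (congrArg Subtype.val (Subgroup.mem_center_iff.1 hy ⟨p, hp⟩)).symm
  have hyz : (y : G) = z := by
    have hyQ := X.R.D.good.cent (y : G) fun q hq => hcomm q (hQP hq)
    refine ((X.R.D.good.centre _ hyQ fun b hb => hcomm b (hQP hb))).resolve_left fun e => hy1 ?_
    exact Subtype.ext (Subtype.ext e)
  have hle : (P0 : Subgroup G) ≤ Subgroup.centralizer ({z} : Set G) := fun p hp =>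
    Subgroup.mem_centralizer_singleton_iff.2 (by rw [← hyz]; exact (hcomm p hp).symm)
  have h := X.S.is_maximal' (P0.isPGroup'.comap_of_injective (Subgroup.centralizer ({z} : Set G)).subtype
    (Subgroup.centralizer ({z} : Set G)).subtype_injective) (fun t ht => hP0 ⟨t, ht, rfl⟩)
  intro p hp
  exact ⟨⟨p, hle hp⟩, h ▸ hp, rfl⟩

/-- In a 2-subgroup containing it, it is the only elementary abelian subgroup of that order. -/
theorem unique_G {P B : Subgroup G} (hP : IsPGroup 2 P) (hA : X.AG ≤ P) (hB : B ≤ P)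
    (hsq : ∀ b ∈ B, b * b = 1) (hc : 2 ^ 11 ≤ Nat.card B) : B = X.AG := by
  haveI : Fact (Nat.Prime 2) := ⟨Nat.prime_two⟩
  obtain ⟨P1, hP1⟩ := hP.exists_le_sylow
  obtain ⟨P0, hP0⟩ := X.sylow_top
  obtain ⟨c, hc1⟩ := MulAction.exists_smul_eq G P1 P0
  have conj_mem : ∀ x ∈ (P1 : Subgroup G), c * x * c⁻¹ ∈ (P0 : Subgroup G) := fun x hx => by
    rw [← hc1, Sylow.coe_subgroup_smul]
    exact Subgroup.smul_mem_pointwise_smul x (MulAut.conj c) _ hx
  have key : ∀ D : Subgroup G, D ≤ (P1 : Subgroup G) → (∀ b ∈ D, b * b = 1) → 2 ^ 11 ≤ Nat.card D →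
      D.map (MulAut.conj c).toMonoidHom = X.AG := by
    intro D hD hDsq hDc
    have hmem : ∀ x ∈ D.map (MulAut.conj c).toMonoidHom, ∃ t ∈ (X.S : Subgroup _),
        (Subgroup.centralizer ({z} : Set G)).subtype t = x := by
      rintro _ ⟨d, hd, rfl⟩
      have := conj_mem d (hD hd)
      rw [hP0] at this
      exact this
    let B0 := (D.map (MulAut.conj c).toMonoidHom).comap (Subgroup.centralizer ({z} : Set G)).subtype
    have hmap : B0.map (Subgroup.centralizer ({z} : Set G)).subtype = D.map (MulAut.conj c).toMonoidHom := by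
      refine le_antisymm (Subgroup.map_comap_le _ _) fun x hx => ?_
      obtain ⟨t, -, rfl⟩ := hmem x hx
      exact ⟨t, hx, rfl⟩
    have hB0 : B0 = X.A := by
      refine X.unique B0 (fun b hb => ?_) (fun b hb => ?_) ?_
      · obtain ⟨t, ht, e⟩ := hmem _ hb
        rwa [← (Subgroup.centralizer ({z} : Set G)).subtype_injective e]
      · obtain ⟨d, hd, e⟩ := hb
        refine Subtype.ext ?_
        show (b : G) * b = 1
        rw [show (b : G) = (MulAut.conj c).toMonoidHom d from e.symm, ← map_mul, hDsq d hd, map_one]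
      · rw [Nat.card_congr (B0.equivMapOfInjective _ (Subgroup.centralizer ({z} : Set G)).subtype_injective).toEquiv,
          hmap, ← Nat.card_congr (D.equivMapOfInjective _ (MulAut.conj c).injective).toEquiv]
        exact hDc
    rw [← hmap, hB0]; rfl
  have h1 := key X.AG (hA.trans hP1) (fun b hb => X.sq_AG hb) (le_of_eq X.card_AG.symm)
  have h2 := key B (hB.trans hP1) hsq hc
  exact Subgroup.map_injective (MulAut.conj c).injective (h2.trans h1.symm)

/-- Fusion in the subgroup is controlled by its normaliser. -/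
theorem fusion {a : G} (ha : a ∈ X.AG) (g : G) (hg : g * a * g⁻¹ ∈ X.AG) :
    ∃ m : G, X.AG.map (MulAut.conj m).toMonoidHom = X.AG ∧ m * a * m⁻¹ = g * a * g⁻¹ := by
  haveI : Fact (Nat.Prime 2) := ⟨Nat.prime_two⟩
  set b := g * a * g⁻¹ with hb
  set Ag := X.AG.map (MulAut.conj g).toMonoidHom with hAg
  set Cb := Subgroup.centralizer ({b} : Set G) with hCb
  have hA1 : X.AG ≤ Cb := fun x hx => Subgroup.mem_centralizer_singleton_iff.2 (X.comm_AG hx hg)
  have hA2 : Ag ≤ Cb := by
    rintro _ ⟨x, hx, rfl⟩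
    refine Subgroup.mem_centralizer_singleton_iff.2 ?_
    show g * x * g⁻¹ * (g * a * g⁻¹) = g * a * g⁻¹ * (g * x * g⁻¹)
    rw [show g * x * g⁻¹ * (g * a * g⁻¹) = g * (x * a) * g⁻¹ by group, X.comm_AG hx ha]; group
  have hp : ∀ D : Subgroup G, Nat.card D = 2 ^ 11 → IsPGroup 2 (D.subgroupOf Cb) := fun D hD =>
    (IsPGroup.of_card hD).comap_of_injective _ Cb.subtype_injective
  have hAgc : Nat.card Ag = 2 ^ 11 := by
    rw [← X.card_AG]
    exact (Nat.card_congr (X.AG.equivMapOfInjective _ (MulAut.conj g).injective).toEquiv).symm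
  obtain ⟨P1, hP1⟩ := (hp _ X.card_AG).exists_le_sylow
  obtain ⟨P2, hP2⟩ := (hp _ hAgc).exists_le_sylow
  obtain ⟨c, hc⟩ := MulAction.exists_smul_eq Cb P2 P1
  refine ⟨(c : G) * g, ?_, ?_⟩
  · refine X.unique_G (P1.isPGroup'.map Cb.subtype) (fun x hx => ⟨⟨x, hA1 hx⟩, hP1 hx, rfl⟩) ?_ ?_ ?_
    · rintro _ ⟨x, hx, rfl⟩
      have hxg : g * x * g⁻¹ ∈ Ag := ⟨x, hx, rfl⟩
      refine ⟨c * ⟨_, hA2 hxg⟩ * c⁻¹, ?_, by simp [mul_assoc]⟩
      rw [← hc, Sylow.coe_subgroup_smul]
      exact Subgroup.smul_mem_pointwise_smul _ (MulAut.conj c) _ (hP2 hxg)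
    · rintro _ ⟨x, hx, rfl⟩
      rw [← map_mul, X.sq_AG hx, map_one]
    · rw [← Nat.card_congr (X.AG.equivMapOfInjective _ (MulAut.conj ((c : G) * g)).injective).toEquiv, X.card_AG]
  · have hcb : (c : G) * b = b * c := Subgroup.mem_centralizer_singleton_iff.1 c.2
    calc (c : G) * g * a * ((c : G) * g)⁻¹ = (c : G) * b * (c : G)⁻¹ := by rw [hb]; group
      _ = g * a * g⁻¹ := by rw [hcb, mul_inv_cancel_right, hb]

end Ctx

end Cfsg.Agent.Lib.Fi24Type47
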