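import Mathlib

/-!
The elementary abelian subgroup of order 32 attached to the large vector `1360`, and conjugating words.
-/

set_option autoImplicit false

namespace Cfsg.Agent.Lib.Fi24Type47

/-- The large vector. -/
def vN : ℕ := 1360

/-- The numbers of the 16 linear members. -/
def eLinIdx : List ℕ := [0, 9, 17, 23, 26, 119, 124, 204, 404, 410, 429, 448, 473, 474, 475, 476]

/-- The numbers of the 16 semilinear members. -/
def eSemIdx : List ℕ := [35, 66, 75, 86, 251, 271, 288, 289, 350, 369, 493, 505, 506, 507, 510, 511]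

/-- A semilinear member. -/
def oIdx : ℕ := 35

/-- A member of both special subgroups. -/
def k0Idx : ℕ := 26

/-- Elements of odd order normalising the special subgroup. -/
def normEls : List (List ℕ) := [
  [2698, 4047, 2218, 3327, 1301, 2602, 4083, 1361, 341, 682, 4092, 1364],
  [1306, 2607, 885, 410, 3189, 1178, 1432, 2796, 3909, 1418, 1426, 2787]]

/-- Their orders. -/
def normOrd : List ℕ := [3, 3]

/-- Words carrying the members of the special subgroup to the chosen one. -/
def normWords : List (ℕ × List ℕ) := [(13, [1]), (21, [1, 1]), (26, []), (90, [1, 1, 0, 1]), (104, [0, 0]), (136, [1, 0, 0]), (172, [1, 0, 1, 1]), (184, [1, 0, 1]), (201, [0, 1, 1]), (215, [1, 0]), (381, [0, 1, 1, 0]), (386, [0]), (404, [1, 0, 1, 1, 0]), (429, [0, 1]), (441, [1, 1, 0])]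

/-- The commutator space of the chosen involution. -/
def imK : List ℕ := [0, 277, 554, 831, 1093, 1360, 1647, 1914, 2186, 2463, 2720, 2997, 3279, 3546, 3813, 4080]

/-- The sums of both. -/
def uI : List ℕ := [0, 5, 272, 277, 554, 559, 826, 831, 1088, 1093, 1360, 1365, 1642, 1647, 1914, 1919, 2186, 2191, 2458, 2463, 2720, 2725, 2992, 2997, 3274, 3279, 3546, 3551, 3808, 3813, 4080, 4085]

end Cfsg.Agent.Lib.Fi24Type47
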