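import Mathlib
import Cfsg.Agent.Lib.Fi24Type47.Cert
import Cfsg.Agent.Lib.Fi24Type47.DataTwo

/-!
Kernel checks for the pair at the large vector.
-/

set_option autoImplicit false

namespace Cfsg.Agent.Lib.Fi24Type47

/-- The linear members of the subgroup of order 32. -/
def eL : List (List ℕ) := eLinIdx.map getE

/-- The semilinear members. -/
def eS : List (List ℕ) := eSemIdx.map getE

/-- The subgroup of order 32. -/
def eAll : List (List ℕ) := eL ++ eS

/-- The search among the linear subgroups for those of order 16. -/
def six : List (List ℕ) → Bool := fun S =>
  decide (S.length < 16) || S.all kL.contains || S.all eL.contains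

mutual

/-- The search. -/
def sgo : ℕ → List (List ℕ) → List (List ℕ) → Bool
  | 0, _, _ => false
  | n + 1, S, c => six S && sgoList n S c

/-- The children. -/
def sgoList : ℕ → List (List ℕ) → List (List ℕ) → Bool
  | _, _, [] => true
  | 0, _, _ :: _ => false
  | n + 1, S, i :: suf =>
    (let new := S.map (mulM i);
      !(new.all fun x => x == i || suf.contains x) ||
        sgo n (S ++ new) (suf.filter fun j => !(new.contains j) && mulM i j == mulM j i)) &&
      sgoList n S suf

end

theorem sgo_ok : sgo 300 [idM] linInv = true := by decide +kernel

theorem eL_shape : eL.length = 16 ∧ eS.length = 16 ∧ eAll.length = 32 ∧ k0Idx ∈ eLinIdx ∧ k0Idx ∈ kIdx ∧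
    oIdx ∈ eSemIdx ∧ (getE k0Idx == idM) = false := by decide +kernel

theorem no_sem_kL : (semInv.all fun o => !(kL.all fun k => mulM o k == mulM k o)) = true := by decide +kernel

theorem sem_eL : (semInv.all fun o => !(eL.all fun k => mulM o k == mulM k o) || eS.contains o) = true := by
  decide +kernel

theorem eS_sem : (eS.all fun o => semInv.contains o) = true := by decide +kernel

/-- The classes of vectors: the large vector and the sizes. -/
theorem class_facts : clN vN = 2 ∧ vN < 4096 ∧ smallL.length = 378 ∧
    fixK.any (fun c => clN c == 1) = true ∧ fixK.contains vN = true := by decide +kernel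

/-- The vectors moved inside the line of `vN` by the subgroup of order 32. -/
def uZero : List ℕ := (List.range 64).flatMap fun a =>
  ((List.range 64).map (64 * a + ·)).filter fun u =>
    eAll.all fun e => let x := ap e u ^^^ u; x == 0 || x == vN

theorem uZero_length : uZero.length = 64 := by decide +kernel

/-- Those of them fixed by the special subgroup. -/
def uOne : List ℕ := fixK.filter fun u => eAll.all fun e => let x := ap e u ^^^ u; x == 0 || x == vN

theorem uOne_length : uOne.length = 16 := by decide +kernel

theorem imK_all : ((List.range 64).all fun a => (List.range 64).all fun b =>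
    imK.contains (ap (getE k0Idx) (64 * a + b) ^^^ (64 * a + b))) = true := by decide +kernel

theorem uI_sum : (uI.all fun a => uI.all fun b => uI.contains (a ^^^ b)) = true ∧
    (uI.all fun c => uOne.any fun u => imK.contains (u ^^^ c)) = true ∧ (uOne.all uI.contains) = true ∧ (imK.all uI.contains) = true ∧
    imK.all fixK.contains = true := by decide +kernel

theorem o_class : (fixK.all fun c =>
    let x := ap (getE oIdx) c ^^^ c
    !(imK.contains x || imK.contains (x ^^^ vN)) || uI.contains c) = true := by decide +kernel

theorem rot_class : (fixK.all fun c =>
    uI.contains c || uI.contains (ap nuM c) || uI.contains (ap nuM (ap nuM c))) = true := by decide +kernel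

theorem eMeet : ((kL.filter eAll.contains).length == 4) = true := by decide +kernel

theorem norm_ok : normEls.all goodM = true ∧ normEls.all (fun m => mulM m nuM == mulM nuM m) = true ∧
    ((List.range normEls.length).all fun j => decide (normOrd.getD j 0 % 2 = 1) &&
      (Nat.rec idM (fun _ x => mulM x (normEls.getD j [])) (normOrd.getD j 0) : List ℕ) == idM) = true ∧
    (normEls.all fun h => kL.all fun k => kL.any fun k' => mulM h k == mulM k' h) = true := by decide +kernel

/-- The product of a word. -/
def normEl : List ℕ → List ℕ
  | [] => idM
  | j :: t => mulM (normEls.getD j idM) (normEl t)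

theorem norm_words_ok : normWords.all (fun p => p.2.all (fun j => decide (j < normEls.length)) &&
      mulM (normEl p.2) (getE p.1) == mulM (getE k0Idx) (normEl p.2)) = true ∧
    (kIdx.tail).all (fun i => (normWords.map Prod.fst).contains i) = true := by decide +kernel

end Cfsg.Agent.Lib.Fi24Type47
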