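import Mathlib
import Cfsg.Agent.Lib.Fi24Type47.Base
import Cfsg.Agent.Lib.Fi24Type47.CertTwo
import Cfsg.Agent.S5442

/-!
The two classes of involutions of `Q`, and a conjugate of `z` at the large vector.
-/

set_option autoImplicit false

namespace Cfsg.Agent.Lib.Fi24Type47

open Cfsg.Agent.Lib.FischerType (K4 W6 wt blk Sing repW FData vcl inG)

variable {G : Type*} [Group G] [Finite G] {z : G} {Q : Subgroup (Subgroup.centralizer ({z} : Set G))} [Q.Normal]

namespace Ctx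

variable (X : Ctx z Q)

/-- Equal singular classes give conjugate vectors. -/
theorem orbit_of_class {w w' : W6} (hw : clW w = 1 ∨ clW w = 2) (h : clW w' = clW w) :
    ∃ l : Subgroup.centralizer ({z} : Set G) ⧸ Q, l • X.R.Ψ w = X.R.Ψ w' := by
  obtain ⟨k, -, hsmall, hlarge, -, -⟩ := X.R.D.orbits
  have hsing : ∀ u : W6, (clW u = 1 ∨ clW u = 2) → Sing (X.R.D.coord.Ψ.symm (X.R.Ψ u)) := by
    intro u hu
    have hu0 : u ≠ 0 := fun e => by rcases hu with h | h <;> simp [clW, e] at h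
    have huo : ¬ wt u % 2 = 1 := fun e => by rcases hu with h | h <;> simp [clW, hu0, e] at h
    refine ⟨fun e => hu0 ?_, ?_⟩
    · rw [EmbeddingLike.map_eq_zero_iff, EmbeddingLike.map_eq_zero_iff] at e
      exact e
    · have h1 := X.R.D.coord.form (X.R.D.coord.Ψ.symm (X.R.Ψ u))
      rw [AddEquiv.apply_symm_apply, X.R.form] at h1
      have h2 := (ZMod.natCast_eq_natCast_iff' _ _ _).1 h1
      omega
  have hor : ∀ u : W6, (clW u = 1 ∨ clW u = 2) →
      (∃ l : Subgroup.centralizer ({z} : Set G) ⧸ Q, l • X.R.D.coord.Ψ (repW 0) = X.R.Ψ u) ∨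
        ∃ l : Subgroup.centralizer ({z} : Set G) ⧸ Q, l • X.R.D.coord.Ψ (repW 1) = X.R.Ψ u := by
    intro u hu
    have hs := hsing u hu
    set u' := X.R.D.coord.Ψ.symm (X.R.Ψ u) with hu'
    have e : X.R.D.coord.Ψ u' = X.R.Ψ u := AddEquiv.apply_symm_apply _ _
    by_cases hb : blk u' = 0 ∨ blk u' = k
    · exact Or.inl (e ▸ (hsmall u' hs).2 hb)
    · exact Or.inr (e ▸ (hlarge u' hs).2 hb)
  have hinv : ∀ (u : W6) (l : Subgroup.centralizer ({z} : Set G) ⧸ Q) (u' : W6),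
      l • X.R.Ψ u = X.R.Ψ u' → clW u' = clW u := fun u l u' e => by
    rw [← X.R.act] at e
    rw [← X.R.Ψ.injective e]
    exact (mem_Au.1 (X.R.ρ l).2).2 u
  have join : ∀ (r u u' : W6), (∃ l : Subgroup.centralizer ({z} : Set G) ⧸ Q, l • X.R.D.coord.Ψ r = X.R.Ψ u) →
      (∃ l : Subgroup.centralizer ({z} : Set G) ⧸ Q, l • X.R.D.coord.Ψ r = X.R.Ψ u') →
        ∃ l : Subgroup.centralizer ({z} : Set G) ⧸ Q, l • X.R.Ψ u = X.R.Ψ u' := by
    rintro r u u' ⟨l, hl⟩ ⟨l', hl'⟩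
    exact ⟨l' * l⁻¹, by rw [mul_smul, ← hl, inv_smul_smul, hl']⟩
  have hw' : clW w' = 1 ∨ clW w' = 2 := h ▸ hw
  obtain ⟨w1, hw1⟩ : ∃ u : W6, clW u = 1 := by
    obtain ⟨-, -, -, hany, -⟩ := class_facts
    obtain ⟨c, hc, hc1⟩ := List.any_eq_true.1 hany
    have hlt := List.all_eq_true.1 fixK_ok.2.2.1 c hc
    simp only [Bool.and_eq_true, decide_eq_true_eq] at hlt
    exact ⟨dec c, by rw [← clN_eq hlt.1]; simpa using hc1⟩
  obtain ⟨w2, hw2⟩ : ∃ u : W6, clW u = 2 :=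
    ⟨dec vN, by rw [← clN_eq class_facts.2.1]; exact class_facts.1⟩
  rcases hor w hw with a | a <;> rcases hor w' hw' with b | b
  · exact join _ _ _ a b
  · exfalso
    rcases hor w1 (Or.inl hw1) with c | c <;> rcases hor w2 (Or.inr hw2) with d | d
    · obtain ⟨l, hl⟩ := join _ _ _ c d; have := hinv _ _ _ hl; omega
    · obtain ⟨l, hl⟩ := join _ _ _ a c; obtain ⟨l', hl'⟩ := join _ _ _ b d
      have := hinv _ _ _ hl; have := hinv _ _ _ hl'; omega
    · obtain ⟨l, hl⟩ := join _ _ _ b c; obtain ⟨l', hl'⟩ := join _ _ _ a d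
      have := hinv _ _ _ hl; have := hinv _ _ _ hl'; omega
    · obtain ⟨l, hl⟩ := join _ _ _ c d; have := hinv _ _ _ hl; omega
  · exfalso
    rcases hor w1 (Or.inl hw1) with c | c <;> rcases hor w2 (Or.inr hw2) with d | d
    · obtain ⟨l, hl⟩ := join _ _ _ c d; have := hinv _ _ _ hl; omega
    · obtain ⟨l, hl⟩ := join _ _ _ b c; obtain ⟨l', hl'⟩ := join _ _ _ a d
      have := hinv _ _ _ hl; have := hinv _ _ _ hl'; omega
    · obtain ⟨l, hl⟩ := join _ _ _ a c; obtain ⟨l', hl'⟩ := join _ _ _ b d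
      have := hinv _ _ _ hl; have := hinv _ _ _ hl'; omega
    · obtain ⟨l, hl⟩ := join _ _ _ c d; have := hinv _ _ _ hl; omega
  · exact join _ _ _ a b

/-- Involutions of `Q` of the same class are conjugate in the centraliser. -/
theorem conj_of_class {a b : Q} (ha : clW (X.R.vv a) = 1 ∨ clW (X.R.vv a) = 2)
    (h : clW (X.R.vv b) = clW (X.R.vv a)) :
    ∃ c : Subgroup.centralizer ({z} : Set G), c * (a : Subgroup.centralizer ({z} : Set G)) * c⁻¹ = b := by
  obtain ⟨l, hl⟩ := X.orbit_of_class ha h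
  refine (X.R.D.conj_iff ?_).2 ⟨l, ?_⟩
  · have h0 : X.R.vv a ≠ 0 := fun e => by rcases ha with h | h <;> simp [clW, e] at h
    have ho : ¬ wt (X.R.vv a) % 2 = 1 := fun e => by rcases ha with h | h <;> simp [clW, h0, e] at h
    refine ⟨fun e => h0 ((X.R.vv_zero_iff a).2 ((X.R.D.vec_eq_zero_iff a).1 e)), ?_⟩
    exact (X.R.D.wt_vec_iff a).2 ((X.R.vv_parity a).1 (by omega))
  · rw [X.R.D.Ψ_vec, X.R.D.Ψ_vec]
    simpa only [Rep.vv, AddEquiv.apply_symm_apply] using hl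

theorem class_of_involution {a : Q} (h2 : inG z Q a * inG z Q a = 1) (h1 : inG z Q a ≠ 1) (hz : inG z Q a ≠ z) :
    clW (X.R.vv a) = 1 ∨ clW (X.R.vv a) = 2 := by
  have h0 : X.R.vv a ≠ 0 := fun e => by rcases (X.R.vv_zero_iff a).1 e with h | h <;> contradiction
  have hp := (X.R.vv_parity a).2 h2
  rw [clW, if_neg h0, if_neg (show ¬ wt (X.R.vv a) % 2 = 1 by omega)]
  split_ifs <;> simp

/-- A conjugate of `z` in `Q` other than `z` has class two. -/
theorem class_conj {b : Q} (hb : IsConj z (inG z Q b)) (hbz : inG z Q b ≠ z) : clW (X.R.vv b) = 2 := by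
  classical
  obtain ⟨g, hg⟩ := isConj_iff.1 hb
  have hsq : inG z Q b * inG z Q b = 1 := by
    rw [← hg, show g * z * g⁻¹ * (g * z * g⁻¹) = g * (z * z) * g⁻¹ by group, X.R.D.good.x_sq]; group
  have hne : inG z Q b ≠ 1 := fun e => X.R.D.good.x_ne (by
    rw [← hg] at e
    calc z = g⁻¹ * (g * z * g⁻¹) * g := by group
      _ = 1 := by rw [e]; group)
  rcases X.class_of_involution hsq hne hbz with h | h
  swap
  · exact h
  exfalso
  obtain ⟨-, l, hl⟩ := X.R.D.conj_large (b := b) hb hbz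
  obtain ⟨k, -, -, -, -, hcard⟩ := X.R.D.orbits
  have hsub : ∀ x ∈ MulAction.orbit (Subgroup.centralizer ({z} : Set G) ⧸ Q) (X.R.D.coord.Ψ (repW 1)),
      enc (X.R.Ψ.symm x) ∈ smallL.toFinset := by
    rintro x ⟨l', rfl⟩
    show enc (X.R.Ψ.symm (l' • X.R.D.coord.Ψ (repW 1))) ∈ smallL.toFinset
    refine List.mem_toFinset.2 (mem_smallL (enc_lt _) ?_)
    rw [clN_enc, show l' • X.R.D.coord.Ψ (repW 1) = (l' * l⁻¹) • vcl Q b by rw [mul_smul, ← hl, inv_smul_smul],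
      show vcl Q b = X.R.Ψ (X.R.vv b) from (AddEquiv.apply_symm_apply _ _).symm, ← X.R.act,
      AddEquiv.symm_apply_apply, (mem_Au.1 (X.R.ρ _).2).2, h]
  haveI : Finite (Additive (Abelianization Q)) := Finite.of_equiv _ X.R.Ψ.toEquiv
  have := Nat.card_le_card_of_injective
    (fun x : MulAction.orbit (Subgroup.centralizer ({z} : Set G) ⧸ Q) (X.R.D.coord.Ψ (repW 1)) =>
      (⟨enc (X.R.Ψ.symm x.1), hsub x.1 x.2⟩ : {n // n ∈ smallL.toFinset}))
    (fun x y e => Subtype.ext (X.R.Ψ.symm.injective (enc_inj (congrArg Subtype.val e))))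
  rw [hcard, Nat.card_eq_fintype_card, Fintype.card_coe] at this
  have := this.trans (List.toFinset_card_le _)
  rw [class_facts.2.2.1] at this
  omega

include X in
/-- Involutions of `Q` outside the class of `z` are conjugate in the centraliser. -/
theorem conj_small {a b : Q} (ha2 : inG z Q a * inG z Q a = 1) (ha1 : inG z Q a ≠ 1) (han : ¬ IsConj z (inG z Q a))
    (hb2 : inG z Q b * inG z Q b = 1) (hb1 : inG z Q b ≠ 1) (hbn : ¬ IsConj z (inG z Q b)) :
    IsConj (inG z Q a) (inG z Q b) := by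
  obtain ⟨g, ⟨hsc, hsm⟩, hne⟩ := X.hF.1.2.2.2.2
  have key : ∀ c : Q, inG z Q c * inG z Q c = 1 → inG z Q c ≠ 1 → ¬ IsConj z (inG z Q c) →
      clW (X.R.vv c) = 1 := by
    intro c h2 h1 hn
    have hcz : inG z Q c ≠ z := fun e => hn (by rw [e])
    refine (X.class_of_involution h2 h1 hcz).resolve_right fun h => hn ?_
    let b0 : Q := ⟨⟨g * z * g⁻¹, hsc⟩, hsm⟩
    have hb0 : IsConj z (inG z Q b0) := isConj_iff.2 ⟨g, rfl⟩
    obtain ⟨d, hd⟩ := X.conj_of_class (a := b0) (b := c) (Or.inr (X.class_conj hb0 hne))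
      (h.trans (X.class_conj hb0 hne).symm)
    exact hb0.trans (isConj_iff.2 ⟨d, congrArg Subtype.val hd⟩)
  have hA := key a ha2 ha1 han
  obtain ⟨d, hd⟩ := X.conj_of_class (a := a) (b := b) (Or.inl hA) ((key b hb2 hb1 hbn).trans hA.symm)
  exact isConj_iff.2 ⟨d, congrArg Subtype.val hd⟩

include X in
/-- An element over the large vector is a conjugate of `z`. -/
theorem exists_v : ∃ a : Q, enc (X.R.vv a) = vN ∧ (a : Subgroup.centralizer ({z} : Set G)) ∈ X.A ∧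
    inG z Q a ≠ z ∧ IsConj z (inG z Q a) := by
  obtain ⟨a, ha⟩ := X.R.vv_surj (dec vN)
  obtain ⟨hcl, hlt, -, -, hfix⟩ := class_facts
  have he : enc (X.R.vv a) = vN := by rw [ha, enc_dec hlt]
  have hcl2 : clW (X.R.vv a) = 2 := by rw [← clN_enc, he, hcl]
  have hX0 : (a : Subgroup.centralizer ({z} : Set G)) ∈ X.R.X0 := ⟨a.2, by
    rw [show (⟨_, a.2⟩ : Q) = a from rfl, he]; exact List.contains_iff_mem.1 hfix⟩
  have hne : inG z Q a ≠ z := fun e => by
    rw [(X.R.vv_zero_iff a).2 (Or.inr e)] at hcl2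
    simp [clW] at hcl2
  obtain ⟨g, ⟨hsc, hsm⟩, hne0⟩ := X.hF.1.2.2.2.2
  let b0 : Q := ⟨⟨g * z * g⁻¹, hsc⟩, hsm⟩
  have hb0 : IsConj z (inG z Q b0) := isConj_iff.2 ⟨g, rfl⟩
  obtain ⟨d, hd⟩ := X.conj_of_class (a := b0) (b := a) (Or.inr (X.class_conj hb0 hne0))
    (hcl2.trans (X.class_conj hb0 hne0).symm)
  exact ⟨a, he, (X.A_Q ▸ hX0 : (a : Subgroup.centralizer ({z} : Set G)) ∈ X.A ⊓ Q).1, hne,
    hb0.trans (isConj_iff.2 ⟨d, congrArg Subtype.val hd⟩)⟩

include X in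
/-- An element of `A ∩ Q` outside the class of `z`. -/
theorem exists_small : ∃ a : G, a ∈ X.AG ∧ a ≠ 1 ∧ ¬ IsConj z a := by
  obtain ⟨-, -, -, hany, -⟩ := class_facts
  obtain ⟨c, hc, hc1⟩ := List.any_eq_true.1 hany
  have hlt := List.all_eq_true.1 fixK_ok.2.2.1 c hc
  simp only [Bool.and_eq_true, decide_eq_true_eq] at hlt
  obtain ⟨a, ha⟩ := X.R.vv_surj (dec c)
  have he : enc (X.R.vv a) = c := by rw [ha, enc_dec hlt.1]
  have hX0 : (a : Subgroup.centralizer ({z} : Set G)) ∈ X.R.X0 := ⟨a.2, by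
    rw [show (⟨_, a.2⟩ : Q) = a from rfl, he]; exact hc⟩
  have hcl1 : clW (X.R.vv a) = 1 := by rw [← clN_enc, he]; simpa using hc1
  have hne : inG z Q a ≠ z ∧ inG z Q a ≠ 1 := by
    constructor <;> intro e <;>
      · have h0 : X.R.vv a = 0 := (X.R.vv_zero_iff a).2 (by first | exact Or.inl e | exact Or.inr e)
        simp [h0, clW] at hcl1
  refine ⟨inG z Q a, ⟨_, (X.A_Q ▸ hX0 : (a : Subgroup.centralizer ({z} : Set G)) ∈ X.A ⊓ Q).1, rfl⟩, hne.2,
    fun h => ?_⟩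
  have := X.class_conj h hne.1
  omega

end Ctx

end Cfsg.Agent.Lib.Fi24Type47
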