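import Mathlib
import Cfsg.Agent.Lib.Fi24Type47.Elem
import Cfsg.Agent.Lib.Fi24Type47.CertTwo

/-!
The elementary abelian subgroups of order 16 of the linear part.
-/

set_option autoImplicit false

namespace Cfsg.Agent.Lib.Fi24Type47

theorem sgo_sound {K : Finset Au} (hmul : ∀ f ∈ K, ∀ g ∈ K, f * g ∈ K) (hinv : ∀ f ∈ K, f * f = 1)
    (h16 : 16 ≤ K.card) :
    ∀ n : ℕ, (∀ (S c : List (List ℕ)), sgo n S c = true →
      ∀ S' : List Au, S'.map mat = S → (∀ f ∈ S', f ∈ K) → (1 : Au) ∈ S' → (∀ f ∈ S', ∀ g ∈ S', f * g ∈ S') →
      (∀ f ∈ K, f ∈ S' ∨ mat f ∈ c) → (∀ f ∈ K, mat f ∈ kL) ∨ ∀ f ∈ K, mat f ∈ eL) ∧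
    (∀ (S c : List (List ℕ)), sgoList n S c = true →
      ∀ S' : List Au, S'.map mat = S → (∀ f ∈ S', f ∈ K) → (1 : Au) ∈ S' → (∀ f ∈ S', ∀ g ∈ S', f * g ∈ S') →
      (∀ f ∈ K, f ∈ S' ∨ mat f ∈ c) → (∃ f ∈ K, f ∉ S') →
      (∀ f ∈ K, mat f ∈ kL) ∨ ∀ f ∈ K, mat f ∈ eL) := by
  classical
  have hcomm : ∀ f ∈ K, ∀ g ∈ K, f * g = g * f := fun f hf g hg => by
    calc f * g = (f * g) * ((g * f) * (g * f)) := by rw [hinv _ (hmul g hg f hf), mul_one]
      _ = f * (g * g) * f * (g * f) := by simp only [mul_assoc]
      _ = g * f := by rw [hinv g hg, mul_one, hinv f hf, one_mul]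
  intro n
  induction n with
  | zero =>
    refine ⟨fun S c h => by simp [sgo] at h, fun S c h S' _ _ _ _ hK hne => ?_⟩
    obtain ⟨f, hf, hfS⟩ := hne
    have hc := (hK f hf).resolve_left hfS
    cases c with
    | nil => simp at hc
    | cons a t => simp [sgoList] at h
  | succ n ih =>
    refine ⟨fun S c h S' hS hSK hone hS2 hK => ?_, fun S c h S' hS hSK hone hS2 hK hne => ?_⟩
    · simp only [sgo, Bool.and_eq_true] at h
      obtain ⟨hleaf, hlist⟩ := h
      by_cases hne : ∃ f ∈ K, f ∉ S'
      · exact ih.2 S c hlist S' hS hSK hone hS2 hK hne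
      push Not at hne
      simp only [six, Bool.or_eq_true, decide_eq_true_eq] at hleaf
      have hKS : K.card ≤ S.length := by
        rw [← hS, List.length_map]
        exact (Finset.card_le_card fun f hf => List.mem_toFinset.2 (hne f hf)).trans (List.toFinset_card_le _)
      rcases hleaf with (h1 | h1) | h1
      · omega
      · exact Or.inl fun f hf => List.contains_iff_mem.1 (List.all_eq_true.1 h1 _ (by
          rw [← hS]; exact List.mem_map_of_mem (hne f hf)))
      · exact Or.inr fun f hf => List.contains_iff_mem.1 (List.all_eq_true.1 h1 _ (by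
          rw [← hS]; exact List.mem_map_of_mem (hne f hf)))
    · cases c with
      | nil =>
        obtain ⟨f, hf, hfS⟩ := hne
        simpa using (hK f hf).resolve_left hfS
      | cons i suf =>
        simp only [sgoList, Bool.and_eq_true, Bool.or_eq_true, Bool.not_eq_true'] at h
        obtain ⟨hhere, hrest⟩ := h
        by_cases hi : ∃ g ∈ K, g ∉ S' ∧ mat g = i
        · obtain ⟨g, hg, hgS, rfl⟩ := hi
          have hnew : ∀ f ∈ S', g * f ∈ K ∧ g * f ∉ S' := fun f hf => by
            refine ⟨hmul g hg f (hSK f hf), fun hin => hgS ?_⟩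
            have := hS2 _ hin f hf
            rwa [mul_assoc, hinv f (hSK f hf), mul_one] at this
          have hmap : (S'.map (g * ·)).map mat = S.map (mulM (mat g)) := by
            rw [← hS, List.map_map, List.map_map]
            exact List.map_congr_left fun f _ => mat_mul g f
          have hall : ((S.map (mulM (mat g))).all fun x => x == mat g || suf.contains x) = true := by
            rw [← hmap, List.all_eq_true]
            intro x hx
            obtain ⟨f', hf', rfl⟩ := List.mem_map.1 hx
            obtain ⟨f, hf, rfl⟩ := List.mem_map.1 hf'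
            rcases List.mem_cons.1 ((hK _ (hnew f hf).1).resolve_left (hnew f hf).2) with e | e
            · simp [e]
            · simp [e]
          rcases hhere with hh | hh
          · rw [hall] at hh; exact absurd hh (by simp)
          refine ih.1 _ _ hh (S' ++ S'.map (g * ·)) (by rw [List.map_append, hS, hmap]) ?_
            (List.mem_append_left _ hone) ?_ ?_
          · intro f hf
            rcases List.mem_append.1 hf with hf | hf
            · exact hSK f hf
            · obtain ⟨a, ha, rfl⟩ := List.mem_map.1 hf; exact (hnew a ha).1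
          · intro a ha b hb
            rcases List.mem_append.1 ha with ha | ha <;> rcases List.mem_append.1 hb with hb | hb
            · exact List.mem_append_left _ (hS2 a ha b hb)
            · obtain ⟨b, hb', rfl⟩ := List.mem_map.1 hb
              refine List.mem_append_right _ (List.mem_map.2 ⟨a * b, hS2 a ha b hb', ?_⟩)
              rw [← mul_assoc, ← mul_assoc, hcomm g hg a (hSK a ha)]
            · obtain ⟨a, ha', rfl⟩ := List.mem_map.1 ha
              exact List.mem_append_right _ (List.mem_map.2 ⟨a * b, hS2 a ha' b hb, (mul_assoc _ _ _).symm⟩)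
            · obtain ⟨a, ha', rfl⟩ := List.mem_map.1 ha
              obtain ⟨b, hb', rfl⟩ := List.mem_map.1 hb
              refine List.mem_append_left _ ?_
              rw [show g * a * (g * b) = g * g * (a * b) by
                rw [mul_assoc g a, ← mul_assoc a g b, ← hcomm g hg a (hSK a ha')]; simp only [mul_assoc],
                hinv g hg, one_mul]
              exact hS2 a ha' b hb'
          · intro f hf
            by_cases hfS : f ∈ S' ++ S'.map (g * ·)
            · exact Or.inl hfS
            have hfS' : f ∉ S' := fun e => hfS (List.mem_append_left _ e)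
            refine Or.inr (List.mem_filter.2 ⟨?_, ?_⟩)
            · rcases List.mem_cons.1 ((hK f hf).resolve_left hfS') with e | e
              · exfalso
                refine hfS (List.mem_append_right _ ?_)
                exact List.mem_map.2 ⟨1, hone, by rw [mul_one]; exact (mat_inj e).symm⟩
              · exact e
            · rw [Bool.and_eq_true, beq_iff_eq, Bool.not_eq_true']
              refine ⟨?_, by rw [← mat_mul, ← mat_mul, hcomm g hg f hf]⟩
              rw [← hmap]
              by_contra hcon
              rw [Bool.not_eq_false, List.contains_iff_mem] at hcon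
              obtain ⟨f', hf', e⟩ := List.mem_map.1 hcon
              exact hfS (List.mem_append_right _ (mat_inj e ▸ hf'))
        · push Not at hi
          refine ih.2 S suf hrest S' hS hSK hone hS2 (fun f hf => ?_) hne
          by_cases hfS : f ∈ S'
          · exact Or.inl hfS
          rcases List.mem_cons.1 ((hK f hf).resolve_left hfS) with e | e
          · exact absurd e (hi f hf hfS)
          · exact Or.inr e

/-- An elementary abelian subgroup of order at least 16 of the linear part is one of the two. -/
theorem linear_sixteen {K : Finset Au} (hone : (1 : Au) ∈ K) (hmul : ∀ f ∈ K, ∀ g ∈ K, f * g ∈ K)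
    (hinv : ∀ f ∈ K, f * f = 1) (hlin : ∀ f ∈ K, mat f ∈ linL) (h16 : 16 ≤ K.card) :
    (∀ f ∈ K, mat f ∈ kL) ∨ ∀ f ∈ K, mat f ∈ eL := by
  refine (sgo_sound hmul hinv h16 300).1 _ _ sgo_ok [1] (by simp [mat_one]) (by simpa using hone) (by simp)
    (by simp) fun f hf => ?_
  by_cases h1 : f = 1
  · exact Or.inl (by simp [h1])
  refine Or.inr (List.mem_filter.2 ⟨hlin f hf, ?_⟩)
  rw [Bool.and_eq_true, Bool.not_eq_true', beq_iff_eq, ← mat_mul, hinv f hf, mat_one]
  exact ⟨by simpa using fun e => h1 (mat_inj (e.trans mat_one.symm)), rfl⟩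

end Cfsg.Agent.Lib.Fi24Type47
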