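import Mathlib
import Cfsg.Agent.Lib.Fi24Type47.ElemTwo
import Cfsg.Agent.Lib.Fi24Type47.Exist

/-!
Elements of odd order normalising the special subgroup of order 16, and small facts on the tables.
-/

set_option autoImplicit false

namespace Cfsg.Agent.Lib.Fi24Type47

open Cfsg.Agent.Lib.FischerType (K4 W6)

theorem syl_fix_v : sylL.all (fun m => ap m vN == vN) = true := by decide +kernel

theorem o_invert : (mulM (getE oIdx) nuM == mulM (mulM nuM nuM) (getE oIdx)) = true := by decide +kernel

theorem imK_nu : imK.all (fun c => imK.contains (ap nuM c)) = true := by decide +kernel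

theorem imK_pre : (imK.all fun i => (List.range 64).any fun a => (List.range 64).any fun b =>
    ap (getE k0Idx) (64 * a + b) ^^^ (64 * a + b) == i) = true := by decide +kernel

theorem uOne_zero : (uOne.all fun u => uZero.contains u) = true := by decide +kernel

theorem kL_nu : (kL.all fun k => mulM k nuM == mulM nuM k) = true := by decide +kernel

theorem exists_normEl {w : List ℕ} (hw : ∀ j ∈ w, j < normEls.length) : ∃ f : Au, mat f = normEl w ∧
    (∀ R : Subgroup Au, R.index = 2 → f ∈ R) ∧ ∀ k : Au, mat k ∈ kL → mat (f * k * f⁻¹) ∈ kL := by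
  induction w with
  | nil => exact ⟨1, mat_one, fun R _ => R.one_mem, fun k hk => by rwa [one_mul, inv_one, mul_one]⟩
  | cons j t ih =>
    obtain ⟨hgood, -, hodd, hnorm⟩ := norm_ok
    have hj : j < normEls.length := hw j List.mem_cons_self
    have hget : normEls.getD j idM = normEls.getD j [] := by
      rw [List.getD_eq_getElem _ _ hj, List.getD_eq_getElem _ _ hj]
    have hmem : normEls.getD j [] ∈ normEls := by rw [List.getD_eq_getElem _ _ hj]; exact List.getElem_mem _
    obtain ⟨a, ha⟩ := exists_of_good (List.all_eq_true.1 hgood _ hmem)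
    obtain ⟨b, hb, hbR, hbk⟩ := ih fun i hi => hw i (List.mem_cons_of_mem j hi)
    have h := List.all_eq_true.1 hodd j (List.mem_range.2 hj)
    simp only [Bool.and_eq_true, decide_eq_true_eq, beq_iff_eq] at h
    obtain ⟨hodd2, hpow⟩ := h
    have key : ∀ n : ℕ, mat (a ^ n) = (Nat.rec idM (fun _ x => mulM x (normEls.getD j [])) n : List ℕ) := fun n => by
      induction n with
      | zero => rw [pow_zero, mat_one]; rfl
      | succ n ih => rw [pow_succ, mat_mul, ih, ha]
    have hr : a ^ normOrd.getD j 0 = 1 := mat_inj (by rw [key, hpow, mat_one])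
    have haR : ∀ R : Subgroup Au, R.index = 2 → a ∈ R := fun R hR => by
      have e : a ^ (normOrd.getD j 0 / 2 + 1) * a ^ (normOrd.getD j 0 / 2 + 1) = a := by
        rw [← pow_add, show normOrd.getD j 0 / 2 + 1 + (normOrd.getD j 0 / 2 + 1) = normOrd.getD j 0 + 1 by omega,
          pow_succ, hr, one_mul]
      exact e ▸ Subgroup.mul_self_mem_of_index_two hR _
    refine ⟨a * b, by rw [mat_mul, ha, hb, ← hget]; rfl, fun R hR => mul_mem (haR R hR) (hbR R hR), fun k hk => ?_⟩
    rw [show a * b * k * (a * b)⁻¹ = a * (b * k * b⁻¹) * a⁻¹ by group]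
    have hk' := hbk k hk
    obtain ⟨k', hk'm, he⟩ := List.any_eq_true.1 (List.all_eq_true.1 (List.all_eq_true.1 hnorm _ hmem) _ hk')
    obtain ⟨K, hK, -, -, hlift⟩ := exists_kGroup
    obtain ⟨f', hf'⟩ := hlift k' hk'm
    have heq : a * (b * k * b⁻¹) * a⁻¹ = f' := by
      rw [mul_inv_eq_iff_eq_mul]
      exact mat_inj (by rw [mat_mul, mat_mul _ a, ha, hf']; exact eq_of_beq he)
    rw [heq, hf']; exact hk'm

end Cfsg.Agent.Lib.Fi24Type47
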