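import Mathlib
import Cfsg.Agent.Lib.Fi24Type47.Classes
import Cfsg.Agent.Lib.Fi24Type47.NormWords

/-!
Every element of the elementary abelian subgroup of order `2^11` is conjugate into `Q`.
-/

set_option autoImplicit false

namespace Cfsg.Agent.Lib.Fi24Type47

open Cfsg.Agent.Lib.FischerType (K4 W6 wt FData vcl inG eimg)

variable {G : Type*} [Group G] [Finite G] {z : G} {Q : Subgroup (Subgroup.centralizer ({z} : Set G))} [Q.Normal]

namespace Ctx

variable (X : Ctx z Q)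

/-- The large extraspecial subgroup in the whole group. -/
abbrev QG (Q : Subgroup (Subgroup.centralizer ({z} : Set G))) : Subgroup G :=
  Q.map (Subgroup.centralizer ({z} : Set G)).subtype

theorem z_mem_AG : z ∈ X.AG :=
  ⟨Rep.zC z, (X.A_Q ▸ X.R.zC_mem_X0 : Rep.zC z ∈ X.A ⊓ Q).1, rfl⟩

/-- Elements normalising the image normalise the subgroup. -/
theorem normA {c : Subgroup.centralizer ({z} : Set G)}
    (hc : ∀ f : Au, mat f ∈ kL → mat (X.R.img c * f * (X.R.img c)⁻¹) ∈ kL)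
    {a : Subgroup.centralizer ({z} : Set G)} (ha : a ∈ X.A) : c * a * c⁻¹ ∈ X.A := by
  have h : X.A.map (MulAut.conj c).toMonoidHom = X.A := by
    refine X.unique _ ?_ ?_ ?_
    · rintro _ ⟨b, hb, rfl⟩
      rw [X.mem_S_iff]
      refine List.contains_iff_mem.1 (List.all_eq_true.1 syl_contains _ (kL_lin _ ?_))
      show mat (X.R.img (c * b * c⁻¹)) ∈ kL
      rw [map_mul, map_mul, map_inv]
      exact hc _ ((X.A_img _).1 ⟨b, hb, rfl⟩)
    · rintro _ ⟨b, hb, rfl⟩
      rw [← map_mul, X.sq_A b hb, map_one]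
    · rw [← Nat.card_congr (X.A.equivMapOfInjective _ (MulAut.conj c).injective).toEquiv, X.card_A]
  exact h ▸ ⟨a, ha, rfl⟩

/-- The vector of a conjugate, by codes. -/
theorem code_conj (c : Subgroup.centralizer ({z} : Set G)) (a b : Q)
    (h : c * (a : Subgroup.centralizer ({z} : Set G)) * c⁻¹ = b) :
    enc (X.R.vv b) = ap (mat (X.R.img c)) (enc (X.R.vv a)) := by
  rw [ap_mat _ (enc_lt _), dec_enc, X.R.vv_img a b h]

theorem code_mul (a b : Q) : enc (X.R.vv (a * b)) = enc (X.R.vv a) ^^^ enc (X.R.vv b) := by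
  rw [X.R.vv_mul, enc_add]

theorem code_inv (a : Q) : enc (X.R.vv a⁻¹) = enc (X.R.vv a) := by
  have h := X.code_mul a⁻¹ a
  rw [inv_mul_cancel, X.R.vv_one, show enc (0 : W6) = 0 from rfl] at h
  exact Nat.xor_eq_zero_iff.1 h.symm

/-- The frame at the large vector: the data used for the coverage. -/
structure Frame (X : Ctx z Q) where
  a0 : Q
  code : enc (X.R.vv a0) = vN
  g : G
  conj_A : X.AG.map (MulAut.conj g).toMonoidHom = X.AG
  conj_z : g * z * g⁻¹ = inG z Q a0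
  x : Subgroup.centralizer ({z} : Set G)
  x_mem : x ∈ X.A
  x_R : (x : G) ∈ (QG Q).map (MulAut.conj g).toMonoidHom
  x_img : mat (X.R.img x) = getE k0Idx
  e : Subgroup.centralizer ({z} : Set G)
  e_R : (e : G) ∈ (QG Q).map (MulAut.conj g).toMonoidHom
  e_img : mat (X.R.img e) = getE oIdx
  lift : ∀ u ∈ uZero, ∀ q : Q, enc (X.R.vv q) = u → inG z Q q ∈ (QG Q).map (MulAut.conj g).toMonoidHom

theorem exists_frame : Nonempty (Frame X) := by
  classical
  haveI : Fact (Nat.Prime 2) := ⟨Nat.prime_two⟩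
  obtain ⟨a0, hcode, ha0A, ha0z, ha0c⟩ := X.exists_v
  obtain ⟨g1, hg1⟩ := isConj_iff.1 ha0c
  obtain ⟨g, hgA, hg⟩ := X.fusion X.z_mem_AG g1 (hg1 ▸ ⟨_, ha0A, rfl⟩)
  rw [hg1] at hg
  have S := X.R.D.pair a0 hg ha0z
  set R' := (QG Q).map (MulAut.conj g).toMonoidHom with hR'
  obtain ⟨-, hint, -, -, -, hE32, -⟩ := S5442.result z Q X.hF (inG z Q a0) ⟨_, a0.2⟩ (isConj_iff.2 ⟨g, hg⟩) ha0z g hg
    _ _ rfl rfl
  change Nat.card ↥(QG Q ⊓ R') = 2 ^ 7 at hint
  change Nat.card ↥(eimg Q R') = 32 at hE32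
  set E := eimg Q R' with hE
  have hfix : ∀ l ∈ E, ap (mat (X.R.ρ l)) vN = vN := fun l hl => by
    rw [ap_mat _ class_facts.2.1, ← hcode, dec_enc]
    refine congrArg enc (X.R.Ψ.injective ?_)
    rw [X.R.act, Rep.vv, AddEquiv.apply_symm_apply]
    exact FData.eimg_fix S hl
  have hstab : ∀ l, ap (mat (X.R.ρ l)) vN = vN → l • vcl Q a0 = vcl Q a0 := fun l hl => by
    rw [ap_mat _ class_facts.2.1, ← hcode, dec_enc] at hl
    have h := congrArg X.R.Ψ (enc_inj hl)
    rwa [X.R.act, Rep.vv, AddEquiv.apply_symm_apply] at h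
  -- the image is in the Sylow subgroup
  set P := (X.S : Subgroup (Subgroup.centralizer ({z} : Set G))).map (QuotientGroup.mk' Q) with hP
  have hPn : P ≤ Subgroup.normalizer (E : Set (Subgroup.centralizer ({z} : Set G) ⧸ Q)) := by
    intro l hl
    have hls := hstab l (eq_of_beq (List.all_eq_true.1 syl_fix_v _ (X.R.le_syl l hl)))
    rw [Subgroup.mem_normalizer_iff]
    refine fun e => ⟨fun he => X.R.D.eimg_norm S hls he, fun he => ?_⟩
    have hls' : l⁻¹ • vcl Q a0 = vcl Q a0 := inv_smul_eq_iff.2 hls.symm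
    have := X.R.D.eimg_norm S hls' he
    simpa [mul_assoc] using this
  have hEP : IsPGroup 2 E := IsPGroup.of_card (p := 2) (n := 5) hE32
  have hsup : IsPGroup 2 ↥(P ⊔ E) := (X.S.isPGroup'.map _).to_sup_of_normal_right' hEP hPn
  have hQker : IsPGroup 2 (QuotientGroup.mk' Q).ker := by
    rw [QuotientGroup.ker_mk']; exact IsPGroup.of_card X.R.D.card
  have hSeq := X.S.is_maximal' (hsup.comap_of_ker_isPGroup (QuotientGroup.mk' Q) hQker)
    (fun t ht => Subgroup.mem_sup_left ⟨t, ht, rfl⟩)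
  have hEle : ∀ l ∈ E, mat (X.R.ρ l) ∈ sylL := fun l hl => by
    obtain ⟨c, rfl⟩ := QuotientGroup.mk_surjective l
    refine X.R.le_syl _ ⟨c, ?_, rfl⟩
    rw [← hSeq]
    exact Subgroup.mem_sup_right (show (QuotientGroup.mk' Q) c ∈ E from hl)
  -- the image as a set of permutations
  set Ef : Finset Au := (Set.toFinite ((E.map X.R.ρ : Subgroup Au) : Set Au)).toFinset with hEf
  have hEmem : ∀ f, f ∈ Ef ↔ f ∈ E.map X.R.ρ := fun f => Set.Finite.mem_toFinset _
  have hEcard : Ef.card = 32 := by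
    rw [hEf, ← Set.ncard_eq_toFinset_card, ← Nat.card_coe_set_eq]
    show Nat.card ↥(E.map X.R.ρ) = 32
    rw [← Nat.card_congr (E.equivMapOfInjective _ X.R.inj).toEquiv, hE32]
  have hEsq : ∀ f ∈ Ef, f * f = 1 := fun f hf => by
    obtain ⟨l, hl, rfl⟩ := (hEmem f).1 hf
    rw [← map_mul, FData.eimg_inv S hl, map_one]
  have hEmul : ∀ f ∈ Ef, ∀ h ∈ Ef, f * h ∈ Ef := fun f hf h hh =>
    (hEmem _).2 (mul_mem ((hEmem f).1 hf) ((hEmem h).1 hh))
  have hEcomm : ∀ f ∈ Ef, ∀ h ∈ Ef, f * h = h * f := fun f hf h hh => by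
    calc f * h = (f * h) * ((h * f) * (h * f)) := by rw [hEsq _ (hEmul h hh f hf), mul_one]
      _ = f * (h * h) * f * (h * f) := by simp only [mul_assoc]
      _ = h * f := by rw [hEsq h hh, mul_one, hEsq f hf, one_mul]
  have hEsyl : ∀ f ∈ Ef, mat f ∈ sylL := fun f hf => by
    obtain ⟨l, hl, rfl⟩ := (hEmem f).1 hf; exact hEle l hl
  have hErange : ∀ f ∈ Ef, f ∈ X.R.ρ.range := fun f hf => by
    obtain ⟨l, -, rfl⟩ := (hEmem f).1 hf; exact ⟨l, rfl⟩
  set E1 := Ef.filter fun f => f * nuA = nuA * f with hE1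
  have h1mem : ∀ f, f ∈ E1 ↔ f ∈ Ef ∧ f * nuA = nuA * f := fun f => Finset.mem_filter
  have h1one : (1 : Au) ∈ E1 := (h1mem 1).2 ⟨(hEmem 1).2 (one_mem _), by rw [one_mul, mul_one]⟩
  have h1mul : ∀ f ∈ E1, ∀ h ∈ E1, f * h ∈ E1 := fun f hf h hh => by
    rw [h1mem] at hf hh ⊢
    exact ⟨hEmul f hf.1 h hh.1, by rw [mul_assoc, hh.2, ← mul_assoc, hf.2, mul_assoc]⟩
  have h1sq : ∀ f ∈ E1, f * f = 1 := fun f hf => hEsq f ((h1mem f).1 hf).1
  have h1lin : ∀ f ∈ E1, mat f ∈ linL := fun f hf =>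
    X.R.mem_linL (hEsyl f ((h1mem f).1 hf).1) (hErange f ((h1mem f).1 hf).1) ((h1mem f).1 hf).2
  have h1le : E1.card ≤ 16 := by
    by_contra hlt
    obtain ⟨h, -, -⟩ := concl_of_linear (X := ∅) (sm₀ := []) h1one h1mul h1sq h1lin (by simp) (by simp) (by simp)
      (by simp) (by omega)
    omega
  obtain ⟨o, ho, hon⟩ : ∃ o ∈ Ef, o ∉ E1 := by
    by_contra hcon
    push Not at hcon
    have := Finset.card_le_card (show Ef ⊆ E1 from hcon)
    omega
  have honc : ¬ o * nuA = nuA * o := fun e => hon ((h1mem o).2 ⟨ho, e⟩)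
  have h1ge : 16 ≤ E1.card := by
    have hcov : Ef ⊆ E1 ∪ E1.image (o * ·) := by
      intro f hf
      by_cases hfc : f * nuA = nuA * f
      · exact Finset.mem_union_left _ ((h1mem f).2 ⟨hf, hfc⟩)
      · refine Finset.mem_union_right _ (Finset.mem_image.2 ⟨o * f,
          (h1mem _).2 ⟨hEmul o ho f hf, X.R.semi o (hErange o ho) f (hErange f hf) honc hfc⟩, ?_⟩)
        rw [← mul_assoc, hEsq o ho, one_mul]
    have := (Finset.card_le_card hcov).trans ((Finset.card_union_le _ _).trans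
      (Nat.add_le_add_left Finset.card_image_le _))
    omega
  have hsem : ∀ f ∈ Ef, f ∉ E1 → mat f ∈ semInv := fun f hf hn => by
    refine List.mem_filter.2 ⟨hEsyl f hf, ?_⟩
    rw [Bool.and_eq_true, beq_iff_eq, Bool.not_eq_true', beq_eq_false_iff_ne, ← mat_mul, hEsq f hf, mat_one]
    exact ⟨rfl, fun e => hn ((h1mem f).2 ⟨hf, (commute_nu_iff f).2 e⟩)⟩
  obtain ⟨-, -, hlen, hk0e, hk0k, hoe, hk01⟩ := eL_shape
  have hall : ∀ l : List (List ℕ), l.length ≤ 16 → (∀ f ∈ E1, mat f ∈ l) → ∀ m ∈ l, ∃ f ∈ E1, mat f = m := by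
    intro l hl hsub m hm
    by_contra hno
    push Not at hno
    have : E1.image mat ⊆ l.toFinset.erase m := fun y hy => by
      obtain ⟨f, hf, rfl⟩ := Finset.mem_image.1 hy
      exact Finset.mem_erase.2 ⟨hno f hf, List.mem_toFinset.2 (hsub f hf)⟩
    have h := Finset.card_le_card this
    rw [Finset.card_image_of_injective _ (fun a b => mat_inj), Finset.card_erase_of_mem (List.mem_toFinset.2 hm)] at h
    have := List.toFinset_card_le l
    omega
  have h1eL : ∀ f ∈ E1, mat f ∈ eL := by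
    rcases linear_sixteen h1one h1mul h1sq h1lin h1ge with h | h
    · exfalso
      have hno := List.all_eq_true.1 no_sem_kL _ (hsem o ho hon)
      rw [Bool.not_eq_true', List.all_eq_false] at hno
      obtain ⟨m, hm, hne⟩ := hno
      obtain ⟨f, hf, rfl⟩ := hall kL (le_of_eq lin_shape.2.2.2.2.2.1) h m hm
      refine hne (beq_iff_eq.2 ?_)
      rw [← mat_mul, ← mat_mul, hEcomm o ho f ((h1mem f).1 hf).1]
    · exact h
  have hEeq : ∀ f ∈ Ef, mat f ∈ eAll := fun f hf => by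
    by_cases hf1 : f ∈ E1
    · exact List.mem_append_left _ (h1eL f hf1)
    refine List.mem_append_right _ ?_
    have h := List.all_eq_true.1 sem_eL _ (hsem f hf hf1)
    rw [Bool.or_eq_true, Bool.not_eq_true'] at h
    refine List.contains_iff_mem.1 (h.resolve_left fun hfalse => ?_)
    rw [List.all_eq_false] at hfalse
    obtain ⟨m, hm, hne⟩ := hfalse
    obtain ⟨f', hf', rfl⟩ := hall eL (le_of_eq eL_shape.1) h1eL m hm
    refine hne (beq_iff_eq.2 ?_)
    rw [← mat_mul, ← mat_mul, hEcomm f hf f' ((h1mem f').1 hf').1]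
  have hEonto : ∀ m ∈ eAll, ∃ f ∈ Ef, mat f = m := by
    intro m hm
    by_contra hno
    push Not at hno
    have : Ef.image mat ⊆ eAll.toFinset.erase m := fun y hy => by
      obtain ⟨f, hf, rfl⟩ := Finset.mem_image.1 hy
      exact Finset.mem_erase.2 ⟨hno f hf, List.mem_toFinset.2 (hEeq f hf)⟩
    have h := Finset.card_le_card this
    rw [Finset.card_image_of_injective _ (fun a b => mat_inj), hEcard,
      Finset.card_erase_of_mem (List.mem_toFinset.2 hm)] at h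
    have := List.toFinset_card_le eAll
    omega
  have hElift : ∀ m ∈ eAll, ∃ c : Subgroup.centralizer ({z} : Set G), (c : G) ∈ R' ∧ mat (X.R.img c) = m := by
    intro m hm
    obtain ⟨f, hf, rfl⟩ := hEonto m hm
    obtain ⟨l, ⟨c, hc, rfl⟩, rfl⟩ := (hEmem f).1 hf
    exact ⟨c, hc.1, rfl⟩
  have hzR : z ∈ R' := S.hz
  -- elements of `Q ∩ R'`
  have hU : ∀ q : Q, inG z Q q ∈ R' → enc (X.R.vv q) ∈ uZero := by
    intro q hq
    have hlt := enc_lt (X.R.vv q)
    refine List.mem_flatMap.2 ⟨enc (X.R.vv q) / 64, List.mem_range.2 (by omega), List.mem_filter.2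
      ⟨List.mem_map.2 ⟨enc (X.R.vv q) % 64, List.mem_range.2 (by omega), Nat.div_add_mod _ 64⟩, ?_⟩⟩
    rw [List.all_eq_true]
    intro m hm
    obtain ⟨c, hc, rfl⟩ := hElift m hm
    have hb : c * (q : Subgroup.centralizer ({z} : Set G)) * c⁻¹ ∈ Q :=
      (inferInstance : Q.Normal).conj_mem _ q.2 c
    rw [← X.code_conj c q ⟨_, hb⟩ rfl]
    rcases S.hS.comm _ hc _ hq with h | h
    · have : (⟨_, hb⟩ : Q) = q := Subtype.ext (Subtype.ext h)
      rw [this]; simp
    · have : (⟨_, hb⟩ : Q) = q * a0 := Subtype.ext (Subtype.ext (by simpa using h))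
      rw [this, X.code_mul, hcode]
      simp [Nat.xor_assoc, Nat.xor_comm, Nat.xor_left_comm]
  set U : Subgroup (Subgroup.centralizer ({z} : Set G)) :=
    Q ⊓ R'.comap (Subgroup.centralizer ({z} : Set G)).subtype with hUdef
  have hUcard : Nat.card U = 128 := by
    have e : U.map (Subgroup.centralizer ({z} : Set G)).subtype = QG Q ⊓ R' := by
      ext y
      constructor
      · rintro ⟨t, ⟨ht, ht'⟩, rfl⟩; exact ⟨⟨t, ht, rfl⟩, ht'⟩
      · rintro ⟨⟨t, ht, rfl⟩, ht'⟩; exact ⟨t, ⟨ht, ht'⟩, rfl⟩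
    rw [Nat.card_congr (U.equivMapOfInjective _ (Subgroup.centralizer ({z} : Set G)).subtype_injective).toEquiv, e,
      hint]
    norm_num
  have hlift : ∀ u ∈ uZero, ∀ q : Q, enc (X.R.vv q) = u → inG z Q q ∈ R' := by
    set Xu : Finset ℕ :=
      (Set.toFinite ((fun t : U => enc (X.R.vv ⟨t.1, t.2.1⟩)) '' Set.univ)).toFinset with hXu
    have hXmem : ∀ t : U, enc (X.R.vv ⟨t.1, t.2.1⟩) ∈ Xu := fun t =>
      (Set.Finite.mem_toFinset _).2 ⟨t, trivial, rfl⟩
    have hXiff : ∀ u ∈ Xu, ∃ t : U, enc (X.R.vv ⟨t.1, t.2.1⟩) = u := fun u hu => by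
      obtain ⟨t, -, e⟩ := (Set.Finite.mem_toFinset _).1 hu
      exact ⟨t, e⟩
    have hsub : Xu ⊆ uZero.toFinset := fun u hu => by
      obtain ⟨t, rfl⟩ := hXiff u hu
      exact List.mem_toFinset.2 (hU ⟨t.1, t.2.1⟩ t.2.2)
    choose r hr using fun u : {u // u ∈ Xu} => hXiff u.1 u.2
    have hinj : Function.Injective fun t : U => ((⟨_, hXmem t⟩ : {u // u ∈ Xu}), decide (t = r ⟨_, hXmem t⟩)) := by
      intro t t' e
      have e1 : enc (X.R.vv ⟨t.1, t.2.1⟩) = enc (X.R.vv ⟨t'.1, t'.2.1⟩) := congrArg (fun p => p.1.1) e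
      have e2 : decide (t = r ⟨_, hXmem t⟩) = decide (t' = r ⟨_, hXmem t'⟩) := congrArg Prod.snd e
      have e3 : r ⟨_, hXmem t⟩ = r ⟨_, hXmem t'⟩ := congrArg r (Subtype.ext e1)
      set c := r ⟨_, hXmem t⟩ with hc
      rw [← e3, decide_eq_decide] at e2
      by_cases ht : t = c
      · rw [ht, e2.1 ht]
      have ht' : ¬ t' = c := fun h => ht (e2.2 h)
      have hct : X.R.vv ⟨c.1, c.2.1⟩ = X.R.vv ⟨t.1, t.2.1⟩ := enc_inj (hr ⟨_, hXmem t⟩)
      rcases X.R.eq_of_vv hct with h | h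
      · exact absurd (Subtype.ext h : t = c) ht
      rcases X.R.eq_of_vv (hct.trans (enc_inj e1)) with h' | h'
      · exact absurd (Subtype.ext h' : t' = c) ht'
      exact Subtype.ext (h.trans h'.symm)
    have h64 := Nat.card_le_card_of_injective _ hinj
    rw [hUcard, Nat.card_prod, Nat.card_eq_fintype_card (α := {u // u ∈ Xu}), Fintype.card_coe,
      Nat.card_eq_fintype_card (α := Bool), Fintype.card_bool] at h64
    have hXeq : Xu = uZero.toFinset := Finset.eq_of_subset_of_card_le hsub (by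
      have := List.toFinset_card_le uZero
      rw [uZero_length] at this
      omega)
    intro u hu q hq
    obtain ⟨t, ht⟩ := hXiff u (hXeq ▸ List.mem_toFinset.2 hu)
    rcases X.R.eq_of_vv (enc_inj (ht.trans hq.symm)) with h | h
    · rw [inG, h]; exact t.2.2
    · rw [inG, h]; exact mul_mem t.2.2 hzR
  -- the subgroup `A ∩ R'`
  set B := X.A ⊓ R'.comap (Subgroup.centralizer ({z} : Set G)).subtype with hB
  have hBcard : Nat.card B = 128 := by
    have e : B.map (Subgroup.centralizer ({z} : Set G)).subtype =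
        ((X.A ⊓ Q).map (Subgroup.centralizer ({z} : Set G)).subtype).map (MulAut.conj g).toMonoidHom := by
      rw [Subgroup.map_inf X.A Q _ (Subgroup.centralizer ({z} : Set G)).subtype_injective,
        Subgroup.map_inf (X.A.map _) (Q.map _) _ (MulAut.conj g).injective]
      show _ = X.AG.map (MulAut.conj g).toMonoidHom ⊓ R'
      rw [hgA]
      ext y
      constructor
      · rintro ⟨t, ⟨ht, ht'⟩, rfl⟩; exact ⟨⟨t, ht, rfl⟩, ht'⟩
      · rintro ⟨⟨t, ht, rfl⟩, h2⟩; exact ⟨t, ⟨ht, h2⟩, rfl⟩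
    rw [Nat.card_congr (B.equivMapOfInjective _ (Subgroup.centralizer ({z} : Set G)).subtype_injective).toEquiv, e,
      ← Nat.card_congr ((Subgroup.map _ (X.A ⊓ Q)).equivMapOfInjective _ (MulAut.conj g).injective).toEquiv,
      ← Nat.card_congr ((X.A ⊓ Q).equivMapOfInjective _
        (Subgroup.centralizer ({z} : Set G)).subtype_injective).toEquiv, X.A_Q, X.R.card_X0]
  have hBQ : Nat.card ↥(B ⊓ Q) ≤ 32 := by
    have hcode' : ∀ t : ↥(B ⊓ Q), enc (X.R.vv ⟨t.1, t.2.2⟩) ∈ uOne.toFinset := fun t => by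
      have h1 : t.1 ∈ X.R.X0 := by rw [← X.A_Q]; exact ⟨t.2.1.1, t.2.2⟩
      obtain ⟨h0, h2⟩ := h1
      refine List.mem_toFinset.2 (List.mem_filter.2 ⟨h2, ?_⟩)
      have h3 := hU ⟨t.1, t.2.2⟩ t.2.1.2
      obtain ⟨h5, h6, h4⟩ := List.mem_flatMap.1 h3
      exact (List.mem_filter.1 h4).2
    choose r hr using fun u : {u // u ∈ uOne.toFinset} => X.R.vv_surj (dec u.1)
    have hinj : Function.Injective fun t : ↥(B ⊓ Q) => ((⟨_, hcode' t⟩ : {u // u ∈ uOne.toFinset}),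
        decide ((t.1 : Subgroup.centralizer ({z} : Set G)) = r ⟨_, hcode' t⟩)) := by
      intro t t' e
      have e1 : enc (X.R.vv ⟨t.1, t.2.2⟩) = enc (X.R.vv ⟨t'.1, t'.2.2⟩) := congrArg (fun p => p.1.1) e
      have e2 := congrArg Prod.snd e
      have e3 : r ⟨_, hcode' t⟩ = r ⟨_, hcode' t'⟩ := congrArg r (Subtype.ext e1)
      set c := r ⟨_, hcode' t⟩ with hc
      simp only [← e3, decide_eq_decide] at e2
      by_cases ht : (t.1 : Subgroup.centralizer ({z} : Set G)) = c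
      · exact Subtype.ext (ht.trans (e2.1 ht).symm)
      have ht' : ¬ (t'.1 : Subgroup.centralizer ({z} : Set G)) = c := fun h => ht (e2.2 h)
      have hct : X.R.vv c = X.R.vv ⟨t.1, t.2.2⟩ := by rw [hc, hr, dec_enc]
      rcases X.R.eq_of_vv hct with h | h
      · exact absurd h ht
      rcases X.R.eq_of_vv (hct.trans (enc_inj e1)) with h' | h'
      · exact absurd h' ht'
      exact Subtype.ext (h.trans h'.symm)
    have h := Nat.card_le_card_of_injective _ hinj
    rw [Nat.card_prod, Nat.card_eq_fintype_card (α := {u // u ∈ uOne.toFinset}), Fintype.card_coe,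
      Nat.card_eq_fintype_card (α := Bool), Fintype.card_bool] at h
    have := List.toFinset_card_le uOne
    rw [uOne_length] at this
    omega
  have hBimg : 4 ≤ Nat.card ↥(B.map X.R.img) := by
    have h := X.R.card_split B
    rw [hBcard] at h
    nlinarith
  have hBk0 : ∃ x ∈ B, mat (X.R.img x) = getE k0Idx := by
    by_contra hno
    push Not at hno
    have hin : getE k0Idx ∈ (kL.filter eAll.contains).toFinset := List.mem_toFinset.2 (List.mem_filter.2
      ⟨List.mem_map.2 ⟨_, hk0k, rfl⟩, List.contains_iff_mem.2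
        (List.mem_append_left _ (List.mem_map.2 ⟨_, hk0e, rfl⟩))⟩)
    have hsub : ∀ f : ↥(B.map X.R.img), mat f.1 ∈ (kL.filter eAll.contains).toFinset.erase (getE k0Idx) := by
      rintro ⟨_, t, ht, rfl⟩
      refine Finset.mem_erase.2 ⟨hno t ht, List.mem_toFinset.2 (List.mem_filter.2
        ⟨(X.A_img _).1 ⟨t, ht.1, rfl⟩, List.contains_iff_mem.2 (hEeq _ ((hEmem _).2 ⟨_, ?_, rfl⟩))⟩)⟩
      exact ⟨t, ⟨ht.2, t.2⟩, rfl⟩
    have h := Nat.card_le_card_of_injective
      (fun f : ↥(B.map X.R.img) => (⟨_, hsub f⟩ : {m // m ∈ (kL.filter eAll.contains).toFinset.erase (getE k0Idx)}))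
      (fun f f' e => Subtype.ext (mat_inj (congrArg Subtype.val e)))
    rw [Nat.card_eq_fintype_card (α := {m // m ∈ (kL.filter eAll.contains).toFinset.erase (getE k0Idx)}),
      Fintype.card_coe, Finset.card_erase_of_mem hin] at h
    have := List.toFinset_card_le (kL.filter eAll.contains)
    rw [eq_of_beq eMeet] at this
    omega
  obtain ⟨x, hx, hxi⟩ := hBk0
  obtain ⟨e, he, hei⟩ := hElift (getE oIdx) (List.mem_append_right _ (List.mem_map.2 ⟨_, hoe, rfl⟩))
  exact ⟨⟨a0, hcode, g, hgA, hg, x, hx.1, hx.2, hxi, e, he, hei, hlift⟩⟩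

/-- Every element of the subgroup is conjugate into `Q`. -/
theorem conj_into_Q {a : G} (ha : a ∈ X.AG) : ∃ (u : G) (b : Q), u * a * u⁻¹ = inG z Q b := by
  classical
  obtain ⟨F⟩ := X.exists_frame
  obtain ⟨y0, hy0, rfl⟩ := ha
  by_cases hyQ : y0 ∈ Q
  · exact ⟨1, ⟨y0, hyQ⟩, by simp [inG]⟩
  have S := X.R.D.pair F.a0 F.conj_z (fun e => by
    have h0 : X.R.vv F.a0 = 0 := (X.R.vv_zero_iff _).2 (Or.inr e)
    have := F.code
    rw [h0] at this
    exact absurd this (by decide +kernel))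
  set R' := (QG Q).map (MulAut.conj F.g).toMonoidHom with hR'
  obtain ⟨nh, h3, hn⟩ := X.R.exists_nh
  obtain ⟨K, hK, -, hKsq, hKlift⟩ := exists_kGroup
  -- the image moved to the chosen involution
  have hky : mat (X.R.img y0) ∈ kL := (X.A_img _).1 ⟨y0, hy0, rfl⟩
  obtain ⟨i, hi, hie⟩ := List.mem_map.1 hky
  have hit : i ∈ kIdx.tail := by
    obtain ⟨-, -, -, -, h0, -, -, -, -⟩ := lin_shape
    cases hk : kIdx with
    | nil => rw [hk] at hi; simp at hi
    | cons b t =>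
      rw [hk] at hi h0
      rcases List.mem_cons.1 hi with rfl | h
      · simp only [List.head?_cons, Option.some.injEq] at h0
        subst h0
        exact absurd ((X.R.img_eq_one_iff _).1 (mat_inj (hie.symm.trans mat_getE_zero.symm))) hyQ
      · exact h
  obtain ⟨p, hp, rfl⟩ := List.mem_map.1 (List.contains_iff_mem.1 (List.all_eq_true.1 norm_words_ok.2 i hit))
  have hpw := List.all_eq_true.1 norm_words_ok.1 p hp
  simp only [Bool.and_eq_true, decide_eq_true_eq, beq_iff_eq, List.all_eq_true] at hpw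
  obtain ⟨f, hf, hfR, hfk⟩ := exists_normEl hpw.1
  obtain ⟨l, hl⟩ := hfR _ X.R.index
  obtain ⟨hc, rfl⟩ := QuotientGroup.mk_surjective l
  have hci : X.R.img hc = f := hl
  have hy1A : hc * y0 * hc⁻¹ ∈ X.A := X.normA (fun k hk => by rw [hci]; exact hfk k hk) hy0
  have hy1i : mat (X.R.img (hc * y0 * hc⁻¹)) = getE k0Idx := by
    obtain ⟨fk, hfk0⟩ := hKlift (getE k0Idx) (List.mem_map.2 ⟨_, eL_shape.2.2.2.2.1, rfl⟩)
    have : X.R.img (hc * y0 * hc⁻¹) = fk := by
      rw [map_mul, map_mul, map_inv, hci, mul_inv_eq_iff_eq_mul]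
      exact mat_inj (by rw [mat_mul, mat_mul, hf, ← hie, hfk0]; exact hpw.2)
    rw [this, hfk0]
  set k0 : Au := X.R.img F.x with hk0def
  have hk0 : mat k0 = getE k0Idx := F.x_img
  have hk0k : mat k0 ∈ kL := (X.A_img _).1 ⟨F.x, F.x_mem, rfl⟩
  have hk0sq : k0 * k0 = 1 := hKsq _ ((hK _).2 hk0k)
  have hk0nu : k0 * nuA = nuA * k0 :=
    (commute_nu_iff k0).2 (eq_of_beq (List.all_eq_true.1 kL_nu _ hk0k))
  have hnuA : ∀ w, ap (mat nuA) w = ap nuM w := fun w => by rw [mat_nuA]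
  have hnhA : ∀ {t : Subgroup.centralizer ({z} : Set G)}, t ∈ X.A → nh * t * nh⁻¹ ∈ X.A := fun ht => by
    refine X.normA (fun k hk => ?_) ht
    rw [hn, ← (commute_nu_iff k).2 (eq_of_beq (List.all_eq_true.1 kL_nu _ hk)), mul_inv_cancel_right]
    exact hk
  have hX0 : ∀ {t : Subgroup.centralizer ({z} : Set G)}, t ∈ X.A → ∀ ht : t ∈ Q, enc (X.R.vv ⟨t, ht⟩) ∈ fixK := by
    intro t htA ht
    obtain ⟨h, h'⟩ := (X.A_Q ▸ (⟨htA, ht⟩ : t ∈ X.A ⊓ Q) : t ∈ X.R.X0)
    exact h'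
  -- the fixed lift
  obtain ⟨a, hai, haf⟩ := Rep.exists_fixed h3 hn (c := F.x) hk0nu
  have haA : a ∈ X.A := by
    have hq : F.x⁻¹ * a ∈ Q := (X.R.img_eq_iff _ _).1 hai.symm
    have hc0 : F.x⁻¹ * (nh * F.x * nh⁻¹) ∈ X.A := mul_mem (inv_mem F.x_mem) (hnhA F.x_mem)
    have hc0Q : F.x⁻¹ * (nh * F.x * nh⁻¹) ∈ Q := by
      rw [← X.R.img_eq_iff, map_mul, map_mul, map_inv, hn, ← hk0nu, mul_inv_cancel_right]
    set q : Q := ⟨_, hq⟩ with hqd
    have hq' : nh * (q : Subgroup.centralizer ({z} : Set G)) * nh⁻¹ ∈ Q :=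
      (inferInstance : Q.Normal).conj_mem _ q.2 nh
    have e : ((⟨_, hc0Q⟩ : Q) * ⟨_, hq'⟩ : Q) = q := Subtype.ext (by
      show F.x⁻¹ * (nh * F.x * nh⁻¹) * (nh * (F.x⁻¹ * a) * nh⁻¹) = F.x⁻¹ * a
      calc _ = F.x⁻¹ * (nh * a * nh⁻¹) := by group
        _ = _ := by rw [haf, mul_inv_cancel_right])
    have hv := congrArg (fun t => enc (X.R.vv t)) e
    simp only [X.code_mul, X.code_conj nh q ⟨_, hq'⟩ rfl, hn, hnuA] at hv
    have hw := enc_lt (X.R.vv q)
    have key : ∀ c ∈ fixK, ∀ w < 4096, c ^^^ ap nuM w = w → w ∈ fixK := by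
      intro c hcm w hw h
      have h2 : w = ap nuM c := by
        have hdec : dec c + nuP (dec w) = dec w := by
          have := congrArg dec h
          rwa [dec_xor, ← mat_nuA, ap_mat _ hw, dec_enc] at this
        have hlt := List.all_eq_true.1 fixK_ok.2.2.1 c hcm
        simp only [Bool.and_eq_true, decide_eq_true_eq] at hlt
        rw [← mat_nuA, ap_mat _ hlt.1, ← enc_dec hw]
        refine congrArg enc (funext fun i => ?_)
        have hi := congrFun hdec i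
        have k : ∀ c w : K4, c + FischerType.nuK w = w → w = FischerType.nuK c := by decide
        exact k _ _ hi
      rw [h2]
      have h := List.all_eq_true.1 (List.all_eq_true.1 fixK_ok.2.2.2.1 c hcm) c hcm
      simp only [Bool.and_eq_true] at h
      exact List.contains_iff_mem.1 h.2
    have hqX : (q : Subgroup.centralizer ({z} : Set G)) ∈ X.R.X0 :=
      ⟨q.2, key _ (hX0 hc0 hc0Q) _ hw hv⟩
    have := mul_mem F.x_mem ((X.A_Q ▸ hqX : (q : Subgroup.centralizer ({z} : Set G)) ∈ X.A ⊓ Q).1)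
    rwa [hqd, mul_inv_cancel_left] at this
  have himg : ∀ {t : Subgroup.centralizer ({z} : Set G)}, X.R.img t = k0 → a⁻¹ * t ∈ Q := fun ht =>
    (X.R.img_eq_iff _ _).1 (hai.trans ht.symm)
  have hxQ : a⁻¹ * F.x ∈ Q := himg rfl
  set cx : Q := ⟨_, hxQ⟩ with hcxd
  have hcxF : enc (X.R.vv cx) ∈ fixK := hX0 (mul_mem (inv_mem haA) F.x_mem) hxQ
  -- the class of `x`
  have hcx : enc (X.R.vv cx) ∈ uI := by
    set o : Au := X.R.img F.e with hod
    have ho : mat o = getE oIdx := F.e_img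
    have hoinv : o * nuA = nuA * nuA * o := mat_inj (by
      rw [mat_mul, mat_mul, mat_mul, ho, mat_nuA]; exact eq_of_beq o_invert)
    have hok : o * k0 * o⁻¹ = k0 := by
      rcases S.hS.comm _ F.e_R _ F.x_R with h | h
      · have h' : F.e * F.x * F.e⁻¹ = F.x := Subtype.ext h
        have := congrArg X.R.img h'
        rwa [map_mul, map_mul, map_inv] at this
      · have h' : F.e * F.x * F.e⁻¹ = F.x * (F.a0 : Subgroup.centralizer ({z} : Set G)) := Subtype.ext h
        have := congrArg X.R.img h'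
        rwa [map_mul, map_mul, map_inv, map_mul, (X.R.img_eq_one_iff _).2 F.a0.2, mul_one] at this
    set b := F.e * a * F.e⁻¹ with hbd
    have hd : a⁻¹ * b ∈ Q := himg (by rw [hbd, map_mul, map_mul, map_inv, hai]; exact hok)
    set d : Q := ⟨_, hd⟩ with hdd
    set m := F.e * nh * F.e⁻¹ with hmd
    have hmb : m * b = b * m := by
      calc m * b = F.e * (nh * a) * F.e⁻¹ := by rw [hmd, hbd]; group
        _ = _ := by rw [haf, hmd, hbd]; group
    have hp : (nh * nh)⁻¹ * m ∈ Q := by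
      rw [← X.R.img_eq_iff, hmd, map_mul, map_mul, map_mul, map_inv, hn, ← hod, hoinv, mul_inv_cancel_right]
    set p : Q := ⟨_, hp⟩ with hpd
    have hp1 : a⁻¹ * (p : Subgroup.centralizer ({z} : Set G)) * a⁻¹⁻¹ ∈ Q :=
      (inferInstance : Q.Normal).conj_mem _ p.2 _
    have hd1 : nh * (d : Subgroup.centralizer ({z} : Set G)) * nh⁻¹ ∈ Q :=
      (inferInstance : Q.Normal).conj_mem _ d.2 _
    have e : ((⟨_, hp1⟩ : Q) * d : Q) = (⟨_, hd1⟩ : Q) * p := Subtype.ext (by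
      show a⁻¹ * ((nh * nh)⁻¹ * m) * a⁻¹⁻¹ * (a⁻¹ * b) = nh * (a⁻¹ * b) * nh⁻¹ * ((nh * nh)⁻¹ * m)
      have hcm : a * (nh * nh) = (nh * nh) * a := by rw [← mul_assoc, ← haf, mul_assoc, ← haf, mul_assoc]
      calc a⁻¹ * ((nh * nh)⁻¹ * m) * a⁻¹⁻¹ * (a⁻¹ * b) = ((nh * nh) * a)⁻¹ * (m * b) := by group
        _ = (a * (nh * nh))⁻¹ * (b * m) := by rw [hcm, hmb]
        _ = (nh * nh * nh) * (nh * nh)⁻¹ * (a⁻¹ * b) * ((nh * nh) * (nh * nh * nh)⁻¹) * ((nh * nh)⁻¹ * m) := by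
          rw [h3]; group
        _ = nh * (a⁻¹ * b) * nh⁻¹ * ((nh * nh)⁻¹ * m) := by group)
    have hv := congrArg (fun t => enc (X.R.vv t)) e
    have hainv : X.R.img a⁻¹ = k0 := by rw [map_inv, hai]; exact inv_eq_of_mul_eq_one_right hk0sq
    simp only [X.code_mul, X.code_conj _ p ⟨_, hp1⟩ rfl, X.code_conj nh d ⟨_, hd1⟩ rfl, hainv, hn, hnuA, hk0] at hv
    have hp' := enc_lt (X.R.vv p)
    have hd' := enc_lt (X.R.vv d)
    have him : enc (X.R.vv d) ∈ imK := by
      set pc := enc (X.R.vv p)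
      set dc := enc (X.R.vv d)
      have h64 := List.all_eq_true.1 (List.all_eq_true.1 imK_all (pc / 64) (List.mem_range.2 (by omega)))
        (pc % 64) (List.mem_range.2 (by omega))
      rw [Nat.div_add_mod] at h64
      have hnu := List.all_eq_true.1 imK_nu _ (List.contains_iff_mem.1 h64)
      refine List.contains_iff_mem.1 ?_
      convert hnu using 2
      have hxl : ap (getE k0Idx) pc ^^^ pc < 4096 := by
        refine Nat.xor_lt_two_pow (n := 12) ?_ hp'
        rw [← hk0, ap_mat _ hp']; exact enc_lt _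
      rw [← hk0, ap_mat _ hp'] at hv hxl ⊢
      rw [← mat_nuA, ap_mat _ hd'] at hv
      rw [← mat_nuA, ap_mat _ hxl, ← enc_dec hd']
      refine congrArg enc (funext fun i => ?_)
      have h1 := congrArg dec hv
      simp only [dec_xor, dec_enc] at h1
      show dec dc i = FischerType.nuK (dec (enc _ ^^^ pc) i)
      simp only [pc, dc, dec_xor, dec_enc] at h1 ⊢
      have k : ∀ kp p d : K4, kp + d = FischerType.nuK d + p → d = FischerType.nuK (kp + p) := by decide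
      exact k _ _ _ (congrFun h1 i)
    have hc1 : F.e * (cx : Subgroup.centralizer ({z} : Set G)) * F.e⁻¹ ∈ Q :=
      (inferInstance : Q.Normal).conj_mem _ cx.2 _
    have hcx' : enc (X.R.vv d) ^^^ ap (getE oIdx) (enc (X.R.vv cx)) = enc (X.R.vv cx) ∨
        enc (X.R.vv d) ^^^ ap (getE oIdx) (enc (X.R.vv cx)) = enc (X.R.vv cx) ^^^ vN := by
      rcases S.hS.comm _ F.e_R _ F.x_R with h | h
      · left
        have h' : F.e * F.x * F.e⁻¹ = F.x := Subtype.ext h
        have e' : (d * ⟨_, hc1⟩ : Q) = cx := Subtype.ext (by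
          show a⁻¹ * (F.e * a * F.e⁻¹) * (F.e * (a⁻¹ * F.x) * F.e⁻¹) = a⁻¹ * F.x
          calc _ = a⁻¹ * (F.e * F.x * F.e⁻¹) := by group
            _ = _ := by rw [h'])
        have := congrArg (fun t => enc (X.R.vv t)) e'
        simpa only [X.code_mul, X.code_conj F.e cx ⟨_, hc1⟩ rfl, ← hod, ho] using this
      · right
        have h' : F.e * F.x * F.e⁻¹ = F.x * (F.a0 : Subgroup.centralizer ({z} : Set G)) := Subtype.ext h
        have e' : (d * ⟨_, hc1⟩ : Q) = cx * F.a0 := Subtype.ext (by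
          show a⁻¹ * (F.e * a * F.e⁻¹) * (F.e * (a⁻¹ * F.x) * F.e⁻¹) = a⁻¹ * F.x * _
          calc _ = a⁻¹ * (F.e * F.x * F.e⁻¹) := by group
            _ = _ := by rw [h', ← mul_assoc])
        have := congrArg (fun t => enc (X.R.vv t)) e'
        simpa only [X.code_mul, X.code_conj F.e cx ⟨_, hc1⟩ rfl, ← hod, ho, F.code] using this
    have h := List.all_eq_true.1 o_class _ hcxF
    rw [Bool.or_eq_true, Bool.not_eq_true', Bool.or_eq_false_iff] at h
    refine List.contains_iff_mem.1 (h.resolve_left fun hfalse => ?_)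
    have move : ∀ p q r : ℕ, p ^^^ q = r → p = q ^^^ r := fun p q r h => by
      rw [← h, ← Nat.xor_assoc, Nat.xor_comm q p, Nat.xor_assoc, Nat.xor_self, Nat.xor_zero]
    rcases hcx' with h' | h'
    · have := List.contains_iff_mem.2 (move _ _ _ h' ▸ him)
      rw [this] at hfalse; exact absurd hfalse.1 (by simp)
    · have h2 := move _ _ _ h'
      rw [← Nat.xor_assoc] at h2
      have := List.contains_iff_mem.2 (h2 ▸ him)
      rw [this] at hfalse; exact absurd hfalse.2 (by simp)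
  -- rotate by the element of order three
  have hrot : ∃ (v y : Subgroup.centralizer ({z} : Set G)) (hy : a⁻¹ * y ∈ Q),
      y = v * y0 * v⁻¹ ∧ y ∈ X.A ∧ enc (X.R.vv ⟨_, hy⟩) ∈ uI := by
    set y1 := hc * y0 * hc⁻¹ with hy1d
    have hstep : ∀ (t : Subgroup.centralizer ({z} : Set G)) (ht : a⁻¹ * t ∈ Q),
        ∃ ht' : a⁻¹ * (nh * t * nh⁻¹) ∈ Q, enc (X.R.vv ⟨_, ht'⟩) = ap nuM (enc (X.R.vv ⟨_, ht⟩)) := by
      intro t ht
      have e : a⁻¹ * (nh * t * nh⁻¹) = nh * (a⁻¹ * t) * nh⁻¹ := by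
        calc a⁻¹ * (nh * t * nh⁻¹) = (nh * a⁻¹ * nh⁻¹) * (nh * t * nh⁻¹) := by
              rw [((Commute.inv_right haf) : Commute nh a⁻¹).eq, mul_inv_cancel_right]
          _ = _ := by group
      refine ⟨e ▸ (inferInstance : Q.Normal).conj_mem _ ht nh, ?_⟩
      rw [X.code_conj nh ⟨_, ht⟩ ⟨a⁻¹ * (nh * t * nh⁻¹), _⟩ e.symm, hn, hnuA]
    have hk : X.R.img y1 = k0 := mat_inj (hy1i.trans hk0.symm)
    have hy1Q : a⁻¹ * y1 ∈ Q := himg hk
    have hF1 := hX0 (mul_mem (inv_mem haA) hy1A) hy1Q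
    have h := List.all_eq_true.1 rot_class _ hF1
    simp only [Bool.or_eq_true, List.contains_iff_mem] at h
    obtain ⟨h2, e2⟩ := hstep y1 hy1Q
    obtain ⟨h2', e2'⟩ := hstep _ h2
    rcases h with (h | h) | h
    · exact ⟨hc, y1, hy1Q, rfl, hy1A, h⟩
    · exact ⟨nh * hc, _, h2, by rw [hy1d]; group, hnhA hy1A, e2 ▸ h⟩
    · exact ⟨nh * (nh * hc), _, h2', by rw [hy1d]; group, hnhA (hnhA hy1A), by rw [e2', e2]; exact h⟩
  obtain ⟨v, y, hyQ', hyv, hyA, hyI⟩ := hrot
  -- shift by an element of `Q`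
  have hsum := List.all_eq_true.1 (List.all_eq_true.1 uI_sum.1 _ hyI) _ hcx
  obtain ⟨u, hu, huI⟩ := List.any_eq_true.1 (List.all_eq_true.1 uI_sum.2.1 _ (List.contains_iff_mem.1 hsum))
  obtain ⟨wa, hwa, hw⟩ := List.any_eq_true.1 (List.all_eq_true.1 imK_pre _ (List.contains_iff_mem.1 huI))
  obtain ⟨wb, hwb, hwe⟩ := List.any_eq_true.1 hw
  rw [beq_iff_eq] at hwe
  rw [List.mem_range] at hwa hwb
  obtain ⟨q, hq⟩ := X.R.vv_surj (dec (64 * wa + wb))
  have hqc : enc (X.R.vv q) = 64 * wa + wb := by rw [hq, enc_dec (by omega)]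
  obtain ⟨uq, huq⟩ := X.R.vv_surj (dec u)
  have hult : u < 4096 := by
    have h := List.all_eq_true.1 fixK_ok.2.2.1 _ (List.mem_filter.1 hu).1
    simp only [Bool.and_eq_true, decide_eq_true_eq] at h
    exact h.1
  have huqc : enc (X.R.vv uq) = u := by rw [huq, enc_dec hult]
  have huR : inG z Q uq ∈ R' := F.lift u (List.contains_iff_mem.1 (List.all_eq_true.1 uOne_zero u hu)) uq huqc
  set r := y⁻¹ * ((q : Subgroup.centralizer ({z} : Set G)) *
    (F.x * (uq : Subgroup.centralizer ({z} : Set G))) * (q : Subgroup.centralizer ({z} : Set G))⁻¹) with hrd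
  have hq1 : F.x⁻¹ * (q : Subgroup.centralizer ({z} : Set G)) * F.x⁻¹⁻¹ ∈ Q :=
    (inferInstance : Q.Normal).conj_mem _ q.2 _
  have hre : r = ((((⟨_, hyQ'⟩ : Q)⁻¹ * cx) * ⟨_, hq1⟩ * uq * q⁻¹ : Q) : Subgroup.centralizer ({z} : Set G)) := by
    show _ = (a⁻¹ * y)⁻¹ * (a⁻¹ * F.x) * (F.x⁻¹ * _ * F.x⁻¹⁻¹) * _ * _
    rw [hrd]; simp only [Subgroup.coe_mul, Subgroup.coe_inv, hcxd]; group
  have hrv : X.R.vv (((⟨_, hyQ'⟩ : Q)⁻¹ * cx) * ⟨_, hq1⟩ * uq * q⁻¹) = 0 := by
    refine enc_inj ?_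
    have hxinv : X.R.img F.x⁻¹ = k0 := by rw [map_inv]; exact inv_eq_of_mul_eq_one_right hk0sq
    rw [X.code_mul, X.code_mul, X.code_mul, X.code_mul, X.code_inv, X.code_inv,
      X.code_conj _ q ⟨_, hq1⟩ rfl, hxinv, hk0, huqc, hqc, show enc (0 : W6) = 0 from rfl]
    have : ∀ A B C D u : ℕ, C ^^^ D = u ^^^ (A ^^^ B) → A ^^^ B ^^^ C ^^^ u ^^^ D = 0 := fun A B C D u h => by
      calc A ^^^ B ^^^ C ^^^ u ^^^ D = (u ^^^ (A ^^^ B)) ^^^ (C ^^^ D) := by
            simp only [Nat.xor_assoc, Nat.xor_comm, Nat.xor_left_comm]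
        _ = 0 := by rw [h, Nat.xor_self]
    exact this _ _ _ _ _ hwe
  have hin : ((q : Subgroup.centralizer ({z} : Set G))⁻¹ * y * q : Subgroup.centralizer ({z} : Set G)).1 ∈ R' := by
    have e : (q : Subgroup.centralizer ({z} : Set G))⁻¹ * y * q =
        F.x * (uq : Subgroup.centralizer ({z} : Set G)) *
          ((q : Subgroup.centralizer ({z} : Set G))⁻¹ * r⁻¹ * q) := by rw [hrd]; group
    rw [e]
    refine mul_mem (mul_mem F.x_R huR) ?_
    have hrz : r = 1 ∨ r = Rep.zC z := by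
      rw [hre]
      exact X.R.eq_of_vv_zero (Subtype.coe_prop (((⟨_, hyQ'⟩ : Q)⁻¹ * cx) * ⟨_, hq1⟩ * uq * q⁻¹)) hrv
    rcases hrz with h | h <;> rw [h]
    · simp
    · rw [inv_eq_of_mul_eq_one_right X.R.zC_facts.2.1, mul_assoc, ← Rep.zC_comm, inv_mul_cancel_left]
      exact S.hz
  obtain ⟨bG, ⟨b, hb, rfl⟩, hbe⟩ := hin
  refine ⟨F.g⁻¹ * ((q : Subgroup.centralizer ({z} : Set G))⁻¹ * v : Subgroup.centralizer ({z} : Set G)), ⟨b, hb⟩, ?_⟩
  have hbe' : F.g * (b : G) * F.g⁻¹ =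
      (((q : Subgroup.centralizer ({z} : Set G))⁻¹ * y * q : Subgroup.centralizer ({z} : Set G)) : G) := hbe
  calc F.g⁻¹ * _ * (y0 : G) * (F.g⁻¹ * _)⁻¹
      = F.g⁻¹ * (((q : Subgroup.centralizer ({z} : Set G))⁻¹ * y * q : Subgroup.centralizer ({z} : Set G)) : G) *
          F.g := by rw [hyv]; simp only [Subgroup.coe_mul, Subgroup.coe_inv]; group
    _ = inG z Q ⟨b, hb⟩ := by rw [← hbe']; show _ = (b : G); group

end Ctx

end Cfsg.Agent.Lib.Fi24Type47
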